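import Cfsg.Agent.H29.SEB.Global
import Cfsg.Agent.H67.SECount
import Cfsg.Agent.H2.UniqueSubgroup
import Cfsg.Prelude.Def_CaseTheorems

/-!
Bender's dichotomy for a group with a strongly embedded subgroup (helper29).
-/

set_option autoImplicit false
set_option linter.style.haveILetI false
set_option linter.unusedSectionVars false

namespace H29SEB

open Subgroup

universe u

variable {G : Type u} [Group G] [Finite G]

/-- Two involutions whose product has even order commute with a common third one. -/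
theorem exists_commute_both {a b : G} (ha : orderOf a = 2) (hb : orderOf b = 2)
    (h : Even (orderOf (a * b))) :
    ∃ z : G, orderOf z = 2 ∧ Commute z a ∧ Commute z b := by
  obtain ⟨n, hn⟩ := h
  set x := a * b with hx
  have hn0 : n ≠ 0 := fun h0 => (orderOf_pos x).ne' (by omega)
  have hz : orderOf (x ^ n) = 2 := by
    rw [orderOf_pow' x hn0, hn, ← two_mul, Nat.gcd_mul_left_left,
      Nat.mul_div_cancel _ (Nat.pos_of_ne_zero hn0)]
  have hinv : ∀ c : G, c * x * c⁻¹ = x⁻¹ → Commute (x ^ n) c := by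
    intro c hc
    have h1 : c * x ^ n * c⁻¹ = x ^ n := by
      rw [← conj_pow, hc, inv_pow]
      exact H70.inv_eq_self_of_two hz
    exact (mul_inv_eq_iff_eq_mul.1 h1).symm
  refine ⟨x ^ n, hz, hinv a ?_, hinv b ?_⟩
  · rw [hx, mul_inv_rev, H70.inv_eq_self_of_two hb, H70.inv_eq_self_of_two ha, ← mul_assoc,
      H70.mul_self_of_two ha, one_mul]
  · rw [hx, mul_inv_rev, H70.inv_eq_self_of_two hb, H70.inv_eq_self_of_two ha, mul_assoc,
      mul_assoc, H70.mul_self_of_two hb, mul_one]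

variable {H : Subgroup G}

/-- The fixed coset of an involution. -/
noncomputable def fixPt (H : Subgroup G) (u : G) : G ⧸ H :=
  open Classical in if h : ∃ c : G ⧸ H, u • c = c then h.choose else ((1 : G) : G ⧸ H)

theorem exists_fixed (hH : Cfsg.IsStronglyEmbedded H) {u : G} (hu : orderOf u = 2) :
    ∃ c : G ⧸ H, u • c = c := by
  obtain ⟨s, hsH, hs⟩ := H67.se_exists_invol_mem hH
  obtain ⟨c, hc⟩ := isConj_iff.mp (H67.se_isConj hH hs hu)
  refine ⟨(c : G), H65.smul_coset_eq_iff.mpr ?_⟩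
  rw [← hc, show c⁻¹ * (c * s * c⁻¹) * c = s by group]
  exact hsH

theorem fixed_unique (hH : Cfsg.IsStronglyEmbedded H) {u : G} (hu : orderOf u = 2) {a b : G ⧸ H}
    (ha : u • a = a) (hb : u • b = b) : a = b := by
  obtain ⟨a, rfl⟩ := QuotientGroup.mk_surjective a
  obtain ⟨b, rfl⟩ := QuotientGroup.mk_surjective b
  rw [H65.smul_coset_eq_iff] at ha hb
  rw [QuotientGroup.eq]
  refine H65.se_conj_mem hH (t := a⁻¹ * u * a) ?_ ha ?_
  · simpa using H67.invol_conj hu a⁻¹
  · rw [show (a⁻¹ * b)⁻¹ * (a⁻¹ * u * a) * (a⁻¹ * b) = b⁻¹ * u * b by group]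
    exact hb

/-- The context of a strongly embedded subgroup. -/
theorem se_ctx (hH : Cfsg.IsStronglyEmbedded H) :
    H80.SE.Ctx (fun u : G => orderOf u = 2) (fixPt H) := by
  have hfix : ∀ u : G, orderOf u = 2 → u • fixPt H u = fixPt H u := fun u hu => by
    rw [fixPt, dif_pos (exists_fixed hH hu)]
    exact (exists_fixed hH hu).choose_spec
  have huniq : ∀ (u : G) (a : G ⧸ H), orderOf u = 2 → u • a = a → a = fixPt H u :=
    fun u a hu ha => fixed_unique hH hu ha (hfix u hu)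
  have hcomm : ∀ z u : G, orderOf z = 2 → orderOf u = 2 → Commute z u →
      fixPt H u = fixPt H z := by
    intro z u hz hu h
    refine huniq z _ hz (huniq u _ hu ?_)
    rw [← mul_smul, ← h.eq, mul_smul, hfix u hu]
  have hoddSt : ∀ a b : G ⧸ H, a ≠ b → Odd (Nat.card (H80.SE.St G a b)) := by
    intro a b hab
    rcases Nat.even_or_odd (Nat.card (H80.SE.St G a b)) with he | ho
    · obtain ⟨t, htS, ht⟩ := H65.exists_two_mem he
      exact absurd (fixed_unique hH ht htS.1 htS.2) hab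
    · exact ho
  refine
    { inv := fun u hu => hu
      conj := fun u g hu => H67.invol_conj hu g
      mul := fun u v hu hv h hne => orderOf_eq_prime
        (by rw [h.mul_pow, sq, sq, H70.mul_self_of_two hu, H70.mul_self_of_two hv, one_mul])
        (fun h1 => hne (by rw [eq_inv_of_mul_eq_one_left h1, H70.inv_eq_self_of_two hv]))
      fix := hfix
      uniq := huniq
      surj := fun a => ?_
      odd_prod := fun u v hu hv hne => ?_
      core := fun a b hab => ⟨H80.SE.St G a b, fun d hd => ⟨hd.1, hd.2⟩, hoddSt a b hab,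
        fun d h1 h2 _ => ⟨h1, h2⟩⟩
      swap_odd := fun u i a hu hi hua hia => ?_ }
  · obtain ⟨g, rfl⟩ := QuotientGroup.mk_surjective a
    obtain ⟨s, hsH, hs⟩ := H67.se_exists_invol_mem hH
    have hs' : orderOf (g * s * g⁻¹) = 2 := H67.invol_conj hs g
    refine ⟨g * s * g⁻¹, hs', (huniq _ _ hs' (H65.smul_coset_eq_iff.2 ?_)).symm⟩
    rw [show g⁻¹ * (g * s * g⁻¹) * g = s by group]
    exact hsH
  · by_contra hodd
    obtain ⟨z, hz, hzu, hzv⟩ := exists_commute_both hu hv (Nat.not_odd_iff_even.1 hodd)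
    exact hne ((hcomm z u hz hu hzu).trans (hcomm z v hz hv hzv).symm)
  · have hu1 : ∀ c : G ⧸ H, u • u • c = c := fun c => by
      rw [← mul_smul, H70.mul_self_of_two hu, one_smul]
    refine (hoddSt a (u • a) (Ne.symm hua)).of_dvd_nat (Subgroup.orderOf_dvd_natCard _ ⟨?_, ?_⟩)
    · show (u * i) • a = a
      rw [mul_smul, hia, hu1]
    · show (u * i) • (u • a) = u • a
      rw [mul_smul, ← hia, ← mul_smul i, H70.mul_self_of_two hi, one_smul, hia]

theorem smul_one_coset_iff {h : G} :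
    h • (((1 : G) : G ⧸ H)) = ((1 : G) : G ⧸ H) ↔ h ∈ H := by
  rw [H65.smul_coset_eq_iff, inv_one, one_mul, mul_one]

/-- **Bender's dichotomy**: transitivity off `H` if two distinct involutions commute. -/
theorem transitive_off (hH : Cfsg.IsStronglyEmbedded H) {t₀ t₁ : G} (h₀ : orderOf t₀ = 2)
    (h₁ : orderOf t₁ = 2) (hne : t₀ ≠ t₁) (hc : Commute t₀ t₁) {g₁ g₂ : G} (hg₁ : g₁ ∉ H)
    (hg₂ : g₂ ∉ H) : ∃ h ∈ H, g₂⁻¹ * (h * g₁) ∈ H := by
  have hne1 : ∀ g : G, g ∉ H → ((1 : G) : G ⧸ H) ≠ (g : G ⧸ H) := by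
    intro g hg h
    rw [QuotientGroup.eq, inv_one, one_mul] at h
    exact hg h
  haveI : Nontrivial (G ⧸ H) := ⟨⟨_, _, hne1 g₁ hg₁⟩⟩
  obtain ⟨h, h1, h2⟩ := double_transitive (se_ctx hH) (fun _ hw => hw) h₀ h₁ hne hc
    (hne1 g₁ hg₁) (hne1 g₂ hg₂)
  refine ⟨h, smul_one_coset_iff.1 h1, ?_⟩
  rw [MulAction.Quotient.smul_coe, smul_eq_mul] at h2
  exact QuotientGroup.eq.1 h2.symm

/-- A strongly embedded subgroup supplements the odd core if no two involutions commute. -/
theorem sup_core_eq_top (hH : Cfsg.IsStronglyEmbedded H)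
    (hno : ∀ a b : G, orderOf a = 2 → orderOf b = 2 → Commute a b → a = b) :
    Cfsg.oddCore G ⊔ H = ⊤ := by
  obtain ⟨z, hzH, hz⟩ := H67.se_exists_invol_mem hH
  have hiso : Cfsg.IsIsolatedInvolution z :=
    ⟨hz, fun g hg => (hno z _ hz (H67.invol_conj hz g) hg).symm⟩
  haveI := H1.pPrimeCore_normal' 2 G
  set O := Cfsg.pPrimeCore 2 G with hO
  show O ⊔ H = ⊤
  have hOodd : Odd (Nat.card O) := Nat.coprime_two_right.mp (H1.card_pPrimeCore_coprime 2 G)
  refine eq_top_iff.2 fun g _ => ?_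
  set w := g * z * g⁻¹ with hw
  have hzw : z * w ∈ O := by
    have h1 := H85.zStar hiso g
    rwa [show z * g * z⁻¹ * g⁻¹ = z * (g * z⁻¹ * g⁻¹) by group, H70.inv_eq_self_of_two hz] at h1
  have hodd : Odd (orderOf (z * w)) := hOodd.of_dvd_nat (Subgroup.orderOf_dvd_natCard _ hzw)
  set M := O ⊔ zpowers z with hM
  have hzM : z ∈ M := mem_sup_right (mem_zpowers z)
  have hwM : w ∈ M := by
    have h1 := mul_mem hzM (mem_sup_left hzw : z * w ∈ M)
    rwa [← mul_assoc, H70.mul_self_of_two hz, one_mul] at h1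
  obtain ⟨n, hn⟩ := isConj_iff.1 (H70.isConj_of_odd_prod (G := M) (x := ⟨z, hzM⟩) (y := ⟨w, hwM⟩)
    (by rw [Subgroup.orderOf_mk]; exact hz)
    (by rw [Subgroup.orderOf_mk]; exact H67.invol_conj hz g)
    (by rw [← Subgroup.orderOf_coe]; exact hodd))
  have hn' : (n : G) * z * (n : G)⁻¹ = w := congrArg Subtype.val hn
  have hcH : (n : G)⁻¹ * g ∈ H := by
    refine H67.se_centralizer_mem hH hz hzH ?_
    show (n : G)⁻¹ * g * z = z * ((n : G)⁻¹ * g)
    calc (n : G)⁻¹ * g * z = (n : G)⁻¹ * w * g := by rw [hw]; group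
      _ = z * ((n : G)⁻¹ * g) := by rw [← hn']; group
  have hMle : M ≤ O ⊔ H := sup_le le_sup_left (le_sup_of_le_right (zpowers_le.2 hzH))
  have h3 : (n : G) * ((n : G)⁻¹ * g) ∈ O ⊔ H := mul_mem (hMle n.2) (mem_sup_right hcH)
  rwa [mul_inv_cancel_left] at h3

/-- The Sylow `2`-subgroups then are cyclic or generalized quaternion. -/
theorem sylow_cyclic_or_quaternion
    (hno : ∀ a b : G, orderOf a = 2 → orderOf b = 2 → Commute a b → a = b) (S : Sylow 2 G) :
    IsCyclic S ∨ ∃ m : ℕ, 1 ≤ m ∧ Nonempty ((S : Subgroup G) ≃* QuaternionGroup (2 ^ m)) := by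
  haveI : Fact (Nat.Prime 2) := ⟨Nat.prime_two⟩
  suffices huniq : ∀ A B : Subgroup (S : Subgroup G), Nat.card A = 2 → Nat.card B = 2 → A = B by
    rcases H2.cyclic_or_quaternion (G := (S : Subgroup G)) S.2 huniq with h | ⟨k, ⟨e⟩⟩
    · exact Or.inl h
    · rcases Nat.eq_zero_or_pos k with rfl | hk
      · haveI : IsCyclic (QuaternionGroup (2 ^ 0)) := QuaternionGroup.quaternionGroup_one_isCyclic
        exact Or.inl (isCyclic_of_surjective e.symm.toMonoidHom e.symm.surjective)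
      · exact Or.inr ⟨k, hk, ⟨e⟩⟩
  -- unique involution: the centre contains one
  intro A B hA hB
  have hgen : ∀ A : Subgroup (S : Subgroup G), Nat.card A = 2 →
      ∃ a : (S : Subgroup G), orderOf (a : G) = 2 ∧ A = zpowers a := by
    intro A hA
    obtain ⟨a, ha⟩ := exists_prime_orderOf_dvd_card' (G := A) 2 hA.symm.dvd
    refine ⟨a, by rw [Subgroup.orderOf_coe, Subgroup.orderOf_coe, ha], ?_⟩
    symm
    refine eq_of_le_of_card_ge (zpowers_le.2 a.2) ?_
    rw [Nat.card_zpowers, Subgroup.orderOf_coe, ha, hA]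
  obtain ⟨a, ha, rfl⟩ := hgen A hA
  obtain ⟨b, hb, rfl⟩ := hgen B hB
  haveI : Nontrivial (S : Subgroup G) := ⟨⟨a, 1, fun h => by
    rw [h, OneMemClass.coe_one, orderOf_one] at ha; omega⟩⟩
  obtain ⟨c, hc⟩ : ∃ c : center (S : Subgroup G), orderOf c = 2 := by
    refine exists_prime_orderOf_dvd_card' 2 ?_
    rcases (S.2.to_subgroup (center (S : Subgroup G))).card_eq_or_dvd with h | h
    · exact absurd (Subgroup.card_eq_one.1 h) ((nontrivial_iff_ne_bot _).1 S.2.center_nontrivial)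
    · exact h
  have hc' : orderOf ((c : (S : Subgroup G)) : G) = 2 := by
    rw [Subgroup.orderOf_coe, Subgroup.orderOf_coe, hc]
  have hcent : ∀ x : (S : Subgroup G), orderOf (x : G) = 2 → x = (c : (S : Subgroup G)) :=
    fun x hx => Subtype.ext (hno _ _ hx hc' (congrArg Subtype.val (mem_center_iff.1 c.2 x)))
  rw [hcent a ha, hcent b hb]

end H29SEB
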