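import Cfsg.Agent.H29.SEB.Quot
import Cfsg.Agent.H80.SETrans
import Cfsg.Agent.H85.ZStarApps

/-!
Bender's theorem: if all involutions form the class of a context and some two of them commute, the
point stabilisers are transitive on the remaining points (helper29).
-/

set_option autoImplicit false
set_option linter.style.haveILetI false
set_option linter.unusedSectionVars false

namespace H29SEB

open Subgroup

universe u

section Orbit

variable {G : Type u} [Group G] [Finite G]

/-- The index of a centraliser is the length of the orbit. -/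
theorem relIndex_eq_card_orbit (v : G) (D : Subgroup G) :
    (centralizer ({v} : Set G)).relIndex D = Nat.card {w : G // ∃ d ∈ D, d * v * d⁻¹ = w} := by
  rw [Subgroup.relIndex]
  refine Nat.card_congr (Equiv.ofBijective
    (fun q : D ⧸ (centralizer ({v} : Set G)).subgroupOf D => Quotient.liftOn' q
      (fun d => (⟨(d : G) * v * (d : G)⁻¹, d, d.2, rfl⟩ : {w : G // ∃ d ∈ D, d * v * d⁻¹ = w})) ?_)
    ⟨?_, ?_⟩)
  · intro x y hxy
    rw [QuotientGroup.leftRel_apply, mem_subgroupOf, mem_centralizer_singleton_iff] at hxy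
    push_cast at hxy
    refine Subtype.ext ?_
    show (x : G) * v * (x : G)⁻¹ = (y : G) * v * (y : G)⁻¹
    calc (x : G) * v * (x : G)⁻¹ = (x : G) * (v * ((x : G)⁻¹ * y)) * (y : G)⁻¹ := by group
      _ = (x : G) * (((x : G)⁻¹ * y) * v) * (y : G)⁻¹ := by rw [hxy]
      _ = (y : G) * v * (y : G)⁻¹ := by group
  · intro q q' h
    induction q using QuotientGroup.induction_on with | _ x => ?_
    induction q' using QuotientGroup.induction_on with | _ y => ?_
    have h' : (x : G) * v * (x : G)⁻¹ = (y : G) * v * (y : G)⁻¹ := congrArg Subtype.val h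
    refine QuotientGroup.eq.2 ?_
    rw [mem_subgroupOf, mem_centralizer_singleton_iff]
    push_cast
    calc (x : G)⁻¹ * y * v = (x : G)⁻¹ * ((y : G) * v * (y : G)⁻¹) * y := by group
      _ = (x : G)⁻¹ * ((x : G) * v * (x : G)⁻¹) * y := by rw [h']
      _ = v * ((x : G)⁻¹ * y) := by group
  · rintro ⟨_, d, hd, rfl⟩
    exact ⟨QuotientGroup.mk ⟨d, hd⟩, rfl⟩

/-- Images of Sylow subgroups of a subgroup are Sylow subgroups of its image. -/
theorem sylowIn_map {H : Type*} [Group H] [Finite H] (f : G →* H) {r : ℕ} {R D : Subgroup G}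
    (h : H82.SylowIn r R D) : H82.SylowIn r (R.map f) (D.map f) := by
  refine ⟨Subgroup.map_mono h.le, h.isPGroup.map f, fun hd => h.not_dvd (hd.trans ?_)⟩
  have h1 : (R.subgroupOf D).map (f.subgroupMap D) = (R.map f).subgroupOf (D.map f) := by
    ext x
    constructor
    · rintro ⟨y, hy, rfl⟩
      exact ⟨(y : G), hy, rfl⟩
    · rintro ⟨y, hy, he⟩
      exact ⟨⟨y, h.le hy⟩, hy, Subtype.ext he⟩
  show ((R.map f).subgroupOf (D.map f)).index ∣ (R.subgroupOf D).index
  rw [← h1]
  exact index_map_dvd _ (f.subgroupMap_surjective D)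

end Orbit

section Global

variable {G : Type u} {Ω : Type*} [Group G] [Finite G] [MulAction G Ω] [Finite Ω] [Nontrivial Ω]
  {J : G → Prop} {pt : G → Ω} (C : H80.SE.Ctx J pt)

include C

/-- An element commuting with a member of `J` fixes its point. -/
theorem smul_pt_of_commute {d u : G} (hu : J u) (h : Commute d u) : d • pt u = pt u := by
  rw [← C.pt_conj hu d, show d * u * d⁻¹ = u by rw [h.eq, mul_inv_cancel_right]]

/-- The odd core of a two point stabiliser is transitive on the involutions fixing one of the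
points. -/
theorem core_transitive {a b : Ω} (hab : a ≠ b) {D : Subgroup G}
    (hD3 : ∀ d : G, d • a = a → d • b = b → Odd (orderOf d) → d ∈ D)
    {t t' : G} (ht : J t) (hta : pt t = a) (ht' : J t') (ht'a : pt t' = a) :
    ∃ d ∈ D, d * t * d⁻¹ = t' := by
  obtain ⟨u, hu, hua⟩ := C.exists_swap hab
  have hub : u • b = a := by rw [← hua, C.smul_smul_self hu]
  have hfix : ∀ i : G, i • a = b → (u * i) • a = a := fun i hi => by rw [mul_smul, hi, hub]
  let f : {i : G // J i ∧ i • a = b} → {s : G // J s ∧ pt s = a} := fun i =>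
    ⟨(u * i.1) * t * (u * i.1)⁻¹, C.conj _ _ ht, by rw [C.pt_conj ht, hta]; exact hfix _ i.2.2⟩
  have hf : Function.Injective f := by
    intro i₁ i₂ e
    have e' : (u * i₁.1) * t * (u * i₁.1)⁻¹ = (u * i₂.1) * t * (u * i₂.1)⁻¹ :=
      congrArg Subtype.val e
    refine Subtype.ext (C.swapper_inj hab ht ((congrArg (t • ·) hta.symm).trans
      ((C.fix t ht).trans hta)) i₁.2.1 i₂.2.1 i₁.2.2 i₂.2.2 ?_)
    have hj' : i₂.1 * i₁.1 = (u * i₂.1)⁻¹ * (u * i₁.1) := by
      rw [mul_inv_rev, C.inv_eq i₂.2.1]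
      group
    rw [hj']
    show (u * i₂.1)⁻¹ * (u * i₁.1) * t = t * ((u * i₂.1)⁻¹ * (u * i₁.1))
    calc (u * i₂.1)⁻¹ * (u * i₁.1) * t
        = (u * i₂.1)⁻¹ * ((u * i₁.1) * t * (u * i₁.1)⁻¹) * (u * i₁.1) := by group
      _ = (u * i₂.1)⁻¹ * ((u * i₂.1) * t * (u * i₂.1)⁻¹) * (u * i₁.1) := by rw [e']
      _ = t * ((u * i₂.1)⁻¹ * (u * i₁.1)) := by group
  obtain ⟨⟨i, hi, hia⟩, he⟩ := (hf.bijective_of_nat_card_le (C.card_swap hab).ge).2 ⟨t', ht', ht'a⟩
  refine ⟨u * i, hD3 _ (hfix i hia) ?_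
    (C.swap_odd u i a hu hi (hua ▸ Ne.symm hab) (hia.trans hua.symm)), congrArg Subtype.val he⟩
  rw [mul_smul, show i • b = a by rw [← hia, C.smul_smul_self hi], hua]

theorem relIndex_core {a b : Ω} (hab : a ≠ b) {D : Subgroup G}
    (hD1 : ∀ d ∈ D, d • a = a ∧ d • b = b)
    (hD3 : ∀ d : G, d • a = a → d • b = b → Odd (orderOf d) → d ∈ D)
    {t : G} (ht : J t) (hta : pt t = a) :
    (centralizer ({t} : Set G)).relIndex D = H80.SE.mAt J pt a := by
  rw [relIndex_eq_card_orbit]
  refine Nat.card_congr (Equiv.subtypeEquivRight fun w => ⟨?_, fun h => ?_⟩)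
  · rintro ⟨d, hd, rfl⟩
    exact ⟨C.conj t d ht, by rw [C.pt_conj ht, hta]; exact (hD1 d hd).1⟩
  · exact core_transitive C hab hD3 ht hta h.1 h.2

variable (hall : ∀ w : G, orderOf w = 2 → J w)
include hall

omit [Nontrivial Ω] in
theorem pt_eq_of_fix {a : Ω} {w : G} (hw : orderOf w = 2) (h : w • a = a) : pt w = a :=
  (C.uniq w a (hall w hw) h).symm

/-- The prime: no involution normalises a Sylow subgroup of its point stabiliser, and none of a
point `a` normalises one of the odd core of `a` and `b`. -/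
theorem exists_prime_local [MulAction.IsPretransitive G Ω] {t₀ t₁ : G} (ht₀ : J t₀) (ht₁ : J t₁)
    (hne : t₀ ≠ t₁) (hcomm : Commute t₀ t₁) :
    ∃ r : ℕ, r.Prime ∧ r ≠ 2 ∧
      (∀ (v : G) (P : Subgroup G), J v → H82.SylowIn r P (MulAction.stabilizer G (pt v)) →
        v ∉ normalizer (P : Set G)) ∧
      ∃ (a b : Ω) (D : Subgroup G), a ≠ b ∧ (∀ d ∈ D, d • a = a ∧ d • b = b) ∧ Odd (Nat.card D) ∧
        (∀ d : G, d • a = a → d • b = b → Odd (orderOf d) → d ∈ D) ∧
        ∀ (t : G) (R : Subgroup G), J t → pt t = a → H82.SylowIn r R D →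
          t ∉ normalizer (R : Set G) := by
  classical
  haveI : Fact (Nat.Prime 2) := ⟨Nat.prime_two⟩
  set a := pt t₀ with ha
  obtain ⟨b, hba⟩ := exists_ne a
  obtain ⟨D, hD1, hD2, hD3⟩ := C.core a b hba.symm
  set K := MulAction.stabilizer G a with hK
  set O := Cfsg.pPrimeCore 2 K with hO
  haveI : O.Normal := H1.pPrimeCore_normal' 2 K
  have hOodd : Odd (Nat.card O) := Nat.coprime_two_right.mp (H1.card_pPrimeCore_coprime 2 K)
  set π := QuotientGroup.mk' O with hπ
  have hDK : D ≤ K := fun d hd => (hD1 d hd).1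
  set W := (D.subgroupOf K).map π with hW
  have hWodd : Odd (Nat.card W) :=
    (by rw [Nat.card_congr (subgroupOfEquivOfLe hDK).toEquiv]; exact hD2 :
      Odd (Nat.card (D.subgroupOf K))).of_dvd_nat (card_map_dvd _ _)
  -- involutions map to involutions
  have hπ2 : ∀ x : K, orderOf x = 2 → orderOf (π x) = 2 := by
    intro x hx
    refine orderOf_eq_prime (by rw [← map_pow, ← hx, pow_orderOf_eq_one, map_one]) fun h => ?_
    have := hOodd.of_dvd_nat
      (Subgroup.orderOf_dvd_natCard _ ((QuotientGroup.eq_one_iff x).1 h))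
    rw [hx] at this
    exact Nat.not_odd_iff_even.2 even_two this
  -- involutions of the quotient lift
  have hlift : ∀ v : K ⧸ O, orderOf v = 2 → ∃ x : K, orderOf x = 2 ∧ π x = v := by
    intro v hv
    obtain ⟨x, rfl⟩ := QuotientGroup.mk'_surjective O v
    obtain ⟨s, o, ho, hxo⟩ := Nat.exists_eq_two_pow_mul_odd (orderOf_pos x).ne'
    have hdvd : 2 ∣ orderOf x := hv ▸ orderOf_map_dvd π x
    have h2 : orderOf (x ^ o) = 2 ^ s := by
      rw [orderOf_pow, hxo, Nat.gcd_mul_left_left, Nat.mul_div_cancel _ ho.pos]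
    have hπo : π (x ^ o) = π x := by
      obtain ⟨k, hk⟩ := ho
      rw [map_pow, hk, pow_succ, pow_mul, ← hv, pow_orderOf_eq_one, one_pow, one_mul]
    refine ⟨x ^ o, ?_, hπo⟩
    rcases s with _ | _ | s
    · rw [pow_zero, orderOf_eq_one_iff] at h2
      rw [h2, map_one] at hπo
      rw [← hπo, orderOf_one] at hv
      omega
    · simpa using h2
    · exfalso
      have hy : orderOf ((x ^ o) ^ 2 ^ (s + 1)) = 2 := by
        rw [orderOf_pow, h2, Nat.gcd_eq_right (pow_dvd_pow 2 (by omega)),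
          Nat.pow_div (by omega) (by omega), show s + 1 + 1 - (s + 1) = 1 by omega, pow_one]
      have hyO : (x ^ o) ^ 2 ^ (s + 1) ∈ O := by
        refine (QuotientGroup.eq_one_iff _).1 (show π ((x ^ o) ^ 2 ^ (s + 1)) = 1 from ?_)
        rw [map_pow, hπo, pow_succ', pow_mul, ← hv, pow_orderOf_eq_one, one_pow]
      have := hOodd.of_dvd_nat (Subgroup.orderOf_dvd_natCard _ hyO)
      rw [hy] at this
      exact Nat.not_odd_iff_even.2 even_two this
  have hKJ : ∀ x : K, orderOf x = 2 → J x ∧ pt (x : G) = a := by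
    intro x hx
    have h2 : orderOf (x : G) = 2 := by rw [Subgroup.orderOf_coe, hx]
    exact ⟨hall _ h2, pt_eq_of_fix C hall h2 x.2⟩
  have htrans : ∀ v w : K ⧸ O, orderOf v = 2 → orderOf w = 2 → ∃ e ∈ W, e * v * e⁻¹ = w := by
    intro v w hv hw
    obtain ⟨x, hx, rfl⟩ := hlift v hv
    obtain ⟨y, hy, rfl⟩ := hlift w hw
    obtain ⟨d, hd, he⟩ := core_transitive C hba.symm hD3 (hKJ x hx).1 (hKJ x hx).2
      (hKJ y hy).1 (hKJ y hy).2
    refine ⟨π ⟨d, hDK hd⟩, ⟨_, hd, rfl⟩, ?_⟩
    rw [← map_inv, ← map_mul, ← map_mul]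
    exact congrArg π (Subtype.ext he)
  -- two distinct involutions
  have ht₀K : t₀ ∈ K := C.fix t₀ ht₀
  have ht₁K : t₁ ∈ K := by
    show t₁ • a = a
    rw [ha, C.pt_eq_of_commute ht₀ ht₁ hcomm]; exact C.fix t₁ ht₁
  obtain ⟨A, B, hA, hB, hAB⟩ : ∃ A B : K ⧸ O, orderOf A = 2 ∧ orderOf B = 2 ∧ A ≠ B := by
    -- two commuting distinct involutions stay distinct
    by_cases hex : π ⟨t₀, ht₀K⟩ = π ⟨t₁, ht₁K⟩
    swap
    · exact ⟨_, _, hπ2 _ (by rw [Subgroup.orderOf_mk]; exact C.inv _ ht₀),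
        hπ2 _ (by rw [Subgroup.orderOf_mk]; exact C.inv _ ht₁), hex⟩
    exfalso
    have h2 := hπ2 (⟨t₀, ht₀K⟩ * ⟨t₁, ht₁K⟩) (by
      rw [← Subgroup.orderOf_coe]; exact C.inv _ (C.mul _ _ ht₀ ht₁ hcomm hne))
    rw [map_mul, hex, ← map_mul,
      show (⟨t₁, ht₁K⟩ : K) * ⟨t₁, ht₁K⟩ = 1 from Subtype.ext (C.sq ht₁), map_one, orderOf_one] at h2
    omega
  obtain ⟨r, hr, hr2, h1, h2⟩ :=
    exists_prime_quot hWodd htrans (H85.core_quotient_eq_bot (G := K)) hA hB hAB
  haveI := Fact.mk hr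
  have hbad : ∀ (v : G) (P : Subgroup G), J v → pt v = a → H82.SylowIn r P K →
      v ∉ normalizer (P : Set G) := by
    intro v P hv hva hP hvP
    have hvK : v ∈ K := by show v • a = a; rw [← hva]; exact C.fix v hv
    obtain ⟨S, rfl⟩ := hP.exists_sylow
    refine h1 (π ⟨v, hvK⟩) (S.mapSurjective (QuotientGroup.mk'_surjective O))
      (hπ2 _ (by rw [Subgroup.orderOf_mk]; exact C.inv _ hv)) ?_
    refine le_normalizer_map π ⟨⟨v, hvK⟩, mem_normalizer_iff.2 fun x => ?_, rfl⟩
    constructor <;> intro h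
    · obtain ⟨y, hy, he⟩ := (mem_normalizer_iff.1 hvP (x : G)).1 ⟨x, h, rfl⟩
      exact (Subtype.ext he : y = ⟨v, hvK⟩ * x * ⟨v, hvK⟩⁻¹) ▸ hy
    · obtain ⟨y, hy, he⟩ := (mem_normalizer_iff.1 hvP (x : G)).2 ⟨_, h, rfl⟩
      exact (Subtype.ext he : y = x) ▸ hy
  refine ⟨r, hr, hr2, fun v P hv hP hvP => ?_, a, b, D, hba.symm, hD1, hD2, hD3, fun t R ht hta hR htR => ?_⟩
  · obtain ⟨g, hg⟩ := MulAction.exists_smul_eq G (pt v) a
    refine hbad (g * v * g⁻¹) (cj g P) (C.conj v g hv) (by rw [C.pt_conj hv, hg]) ?_ ?_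
    · have := hP.map_equiv g
      rwa [← MulAction.stabilizer_smul_eq_stabilizer_map_conj, hg] at this
    · rw [cj_normalizer, mem_cj]
      simpa [mul_assoc] using hvP
  · have htK : t ∈ K := by show t • a = a; rw [← hta]; exact C.fix t ht
    refine h2 (π ⟨t, htK⟩) ((R.subgroupOf K).map π)
      (hπ2 _ (by rw [Subgroup.orderOf_mk]; exact C.inv _ ht)) (sylowIn_map π ?_) ?_
    · refine ⟨subgroupOf_mono K hR.le, hR.isPGroup.comap_subtype, ?_⟩
      rw [relIndex_subgroupOf hDK]
      exact hR.not_dvd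
    · refine le_normalizer_map π ⟨⟨t, htK⟩, mem_normalizer_iff.2 fun x => ?_, rfl⟩
      exact mem_normalizer_iff.1 htR (x : G)

variable {r : ℕ}

/-- A maximal invariant `r`-group containing one that moves the fixed point is a Sylow subgroup. -/
theorem exists_moving_sylow [Fact r.Prime] (hr2 : r ≠ 2) {u : G} (hu : J u) {R : Subgroup G}
    (hR : IsPGroup r R) (huR : u ∈ normalizer (R : Set G)) (hmove : ¬ ∀ x ∈ R, x • pt u = pt u) :
    ∃ Q : Subgroup G, IsPGroup r Q ∧ u ∈ normalizer (Q : Set G) ∧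
      (¬ ∀ x ∈ Q, x • pt u = pt u) ∧ ∀ P : Subgroup G, IsPGroup r P → Q ≤ P → P = Q := by
  classical
  obtain ⟨Q, ⟨hQ, hRQ, huQ⟩, hmax⟩ := Set.Finite.exists_maximal
    (Set.toFinite {Q : Subgroup G | IsPGroup r Q ∧ R ≤ Q ∧ u ∈ normalizer (Q : Set G)})
    ⟨R, hR, le_rfl, huR⟩
  have hQmove : ¬ ∀ x ∈ Q, x • pt u = pt u := fun h => hmove fun x hx => h x (hRQ hx)
  refine ⟨Q, hQ, huQ, hQmove, ?_⟩
  set N := normalizer (Q : Set G) with hN
  have hiso : Cfsg.IsIsolatedInvolution (⟨u, huQ⟩ : N) := by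
    refine ⟨by rw [Subgroup.orderOf_mk]; exact C.inv u hu, fun g hg => ?_⟩
    by_contra hne
    set w := (g : G) * u * (g : G)⁻¹ with hw
    have hwJ : J w := C.conj u g hu
    have hwN : w ∈ N := mul_mem (mul_mem g.2 huQ) (inv_mem g.2)
    have huw : Commute u w := congrArg Subtype.val hg.eq
    have hne' : u ≠ w := fun h => hne (Subtype.ext h.symm)
    have hsq : u * u = 1 := C.sq hu
    have hwsq : w * w = 1 := C.sq hwJ
    let V : Subgroup G :=
      { carrier := {x | x = 1 ∨ x = u ∨ x = w ∨ x = u * w}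
        one_mem' := Or.inl rfl
        mul_mem' := by
          have e1 : w * u = u * w := huw.eq.symm
          have e2 : u * (u * w) = w := by rw [← mul_assoc, hsq, one_mul]
          have e3 : w * (u * w) = u := by rw [← mul_assoc, e1, mul_assoc, hwsq, mul_one]
          have e4 : u * w * u = w := by rw [mul_assoc, e1, e2]
          have e5 : u * w * w = u := by rw [mul_assoc, hwsq, mul_one]
          have e6 : u * w * (u * w) = 1 := by rw [← mul_assoc, e4, hwsq]
          rintro x y (rfl | rfl | rfl | rfl) (rfl | rfl | rfl | rfl) <;>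
            simp only [Set.mem_ofPred_eq, one_mul, mul_one, hsq, hwsq, e1, e2, e3, e4, e5, e6,
              true_or, or_true]
        inv_mem' := by
          rintro x (rfl | rfl | rfl | rfl)
          · exact Or.inl inv_one
          · exact Or.inr (Or.inl (C.inv_eq hu))
          · exact Or.inr (Or.inr (Or.inl (C.inv_eq hwJ)))
          · exact Or.inr (Or.inr (Or.inr (by
              rw [mul_inv_rev, C.inv_eq hu, C.inv_eq hwJ, huw.eq]))) }
    have hVJ : ∀ x ∈ V, x ≠ 1 → J x ∧ pt x = pt u := by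
      have hwu : pt w = pt u := (C.pt_eq_of_commute hu hwJ huw).symm
      rintro x (rfl | rfl | rfl | rfl) hx
      · exact absurd rfl hx
      · exact ⟨hu, rfl⟩
      · exact ⟨hwJ, hwu⟩
      · have hJ := C.mul u w hu hwJ huw hne'
        refine ⟨hJ, (C.pt_eq_of_commute hu hJ ?_).symm⟩
        exact (Commute.refl u).mul_right huw
    have hcommV : ∀ x ∈ V, ∀ y ∈ V, Commute x y := by
      rintro x (rfl | rfl | rfl | rfl) y (rfl | rfl | rfl | rfl) <;>
        first
          | exact Commute.one_left _ | exact Commute.one_right _ | exact Commute.refl _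
          | exact huw | exact huw.symm
          | exact (Commute.refl _).mul_right huw | exact ((Commute.refl _).mul_right huw).symm
          | exact huw.symm.mul_right (Commute.refl _)
          | exact (huw.symm.mul_right (Commute.refl _)).symm
    haveI : IsMulCommutative V := ⟨⟨fun x y => Subtype.ext (hcommV x x.2 y y.2).eq⟩⟩
    haveI : Fact (Nat.Prime 2) := ⟨Nat.prime_two⟩
    refine hQmove fun x hx => MulAction.mem_stabilizer_iff.1
      (H79.le_of_centralizers_le (p := 2) (A := V) (H := MulAction.stabilizer G (pt u))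
        ?_ ?_ ?_ ?_ ?_ hx)
    · intro y hy
      rcases eq_or_ne y 1 with rfl | hy1
      · exact one_pow 2
      · rw [← C.inv y (hVJ y hy hy1).1]; exact pow_orderOf_eq_one y
    · intro hcyc
      obtain ⟨z, hz⟩ := hcyc.exists_generator
      have key : ∀ y ∈ V, y ≠ 1 → y = (z : G) := by
        intro y hy hy1
        obtain ⟨k, hk⟩ := mem_zpowers_iff.1 (hz ⟨y, hy⟩)
        have hk' : (z : G) ^ k = y := by rw [← Subgroup.coe_zpow, hk]
        rcases eq_or_ne (z : G) 1 with h1 | h1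
        · exact absurd (by rw [← hk', h1, one_zpow]) hy1
        · have h2 : orderOf (z : G) = 2 := C.inv _ (hVJ _ z.2 h1).1
          rcases Int.even_or_odd k with ⟨j, hj⟩ | ⟨j, hj⟩
          · refine absurd ?_ hy1
            rw [← hk', hj, ← two_mul, zpow_mul, zpow_two, H70.mul_self_of_two h2, one_zpow]
          · rw [← hk', hj, zpow_add, zpow_mul, zpow_two, H70.mul_self_of_two h2, one_zpow, one_mul,
              zpow_one]
      exact hne' ((key u (Or.inr (Or.inl rfl)) (H65.ne_one_of_two (C.inv u hu))).trans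
        (key w (Or.inr (Or.inr (Or.inl rfl))) (H65.ne_one_of_two (C.inv w hwJ))).symm)
    · rintro y (rfl | rfl | rfl | rfl)
      exacts [one_mem _, huQ, hwN, mul_mem huQ hwN]
    · obtain ⟨n, hn⟩ := IsPGroup.iff_card.mp hQ
      rw [hn]
      exact ((Nat.coprime_primes Fact.out Nat.prime_two).2 hr2).pow_left n
    · intro y hy hy1 d hd
      rw [MulAction.mem_stabilizer_iff, ← (hVJ y hy hy1).2]
      exact smul_pt_of_commute C (hVJ y hy hy1).1 (mem_centralizer_singleton_iff.1 hd.2)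
  obtain ⟨P, hP⟩ := Cfsg.Agent.H9.isolated_exists_invariant_sylow (p := r) hiso
  have hPN := H82.sylowIn_of_sylow P
  set P' := (P : Subgroup N).map N.subtype with hP'
  obtain ⟨m, hm, hmQ⟩ := hPN.exists_conj_le hQ le_normalizer
  rw [H82.mem_normalizer_iff_map.1 hm] at hmQ
  have huP' : u ∈ normalizer (P' : Set G) := le_normalizer_map N.subtype ⟨⟨u, huQ⟩, hP, rfl⟩
  have hPQ : P' = Q := le_antisymm (hmax (y := P') ⟨hPN.isPGroup, hRQ.trans hmQ, huP'⟩ hmQ) hmQ
  intro T hT hQT
  by_contra hTQ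
  obtain ⟨y, hy, hyQ, hyN⟩ := H65.exists_normalizing_not_mem hT hQT (Ne.symm hTQ)
  have h := hPN.eq_of_le (hT.to_le (sup_le hQT (zpowers_le.2 hy)))
    (sup_le le_normalizer (zpowers_le.2 hyN)) (hPQ.le.trans le_sup_left)
  exact hyQ (hPQ ▸ h ▸ mem_sup_right (mem_zpowers y))

/-- **Bender's theorem** for a context: double transitivity. -/
theorem double_transitive [MulAction.IsPretransitive G Ω] {t₀ t₁ : G} (ht₀ : J t₀) (ht₁ : J t₁)
    (hne : t₀ ≠ t₁) (hcomm : Commute t₀ t₁) {a x y : Ω} (hx : a ≠ x) (hy : a ≠ y) :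
    ∃ h : G, h • a = a ∧ h • x = y := by
  classical
  obtain ⟨r, hr, hr2, hA, a₀, b₀, D, hab, hD1, hD2, hD3, hB⟩ :=
    exists_prime_local C hall ht₀ ht₁ hne hcomm
  haveI := Fact.mk hr
  haveI : Fact (Nat.Prime 2) := ⟨Nat.prime_two⟩
  have hoddr : ∀ {P : Subgroup G}, IsPGroup r P → ∀ {g : G}, g ∈ P → Odd (orderOf g) := by
    intro P hP g hg
    obtain ⟨n, hn⟩ := IsPGroup.iff_orderOf.mp hP ⟨g, hg⟩
    rw [← Subgroup.orderOf_mk g hg, hn]
    exact (hr.odd_of_ne_two hr2).pow
  obtain ⟨u, hu, hua⟩ := C.exists_swap hab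
  have hub : u • b₀ = a₀ := by rw [← hua, C.smul_smul_self hu]
  set c := pt u with hc
  have hca : c ≠ a₀ := fun h => hab (by
    have := C.fix u hu
    rw [← hc, h, hua] at this
    exact this.symm)
  obtain ⟨hnorm, hidx⟩ := C.core_spec hab hu hua hD1 hD2 hD3
  have hA2 := isPGroup_zpowers (C.inv u hu)
  obtain ⟨R, hR, huR⟩ := H8.exists_inv_sylowIn (q := r) hA2 hnorm (not_two_dvd hD2)
  have huR' : u ∈ normalizer (R : Set G) := zpowers_le.1 huR
  have hmAt : H80.SE.mAt J pt a₀ ≠ 0 := by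
    obtain ⟨t, ht, hta⟩ := C.surj a₀
    haveI : Nonempty {t : G // J t ∧ pt t = a₀} := ⟨⟨t, ht, hta⟩⟩
    exact Nat.card_pos.ne'
  have hRmove : ¬ ∀ g ∈ R, g • c = c := by
    intro hRc
    obtain ⟨D', hD1', hD2', hD3'⟩ := C.core c a₀ hca
    have hinf : D ⊓ centralizer ({u} : Set G) = D' ⊓ centralizer ({u} : Set G) := by
      ext d
      refine ⟨fun hd => ⟨hD3' d ?_ (hD1 d hd.1).1 ?_, hd.2⟩,
        fun hd => ⟨hD3 d (hD1' d hd.1).2 ?_ ?_, hd.2⟩⟩
      · exact smul_pt_of_commute C hu (mem_centralizer_singleton_iff.1 hd.2)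
      · exact hD2.of_dvd_nat (Subgroup.orderOf_dvd_natCard _ hd.1)
      · rw [← hua, ← mul_smul, mem_centralizer_singleton_iff.1 hd.2, mul_smul, (hD1' d hd.1).2]
      · exact hD2'.of_dvd_nat (Subgroup.orderOf_dvd_natCard _ hd.1)
    have hcard : Nat.card D' = Nat.card D := by
      rw [← H82.card_mul_relIndex (inf_le_left : D ⊓ centralizer ({u} : Set G) ≤ D),
        ← H82.card_mul_relIndex (inf_le_left : D' ⊓ centralizer ({u} : Set G) ≤ D'),
        inf_relIndex_left, inf_relIndex_left, hinf, hidx,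
        relIndex_core C hca hD1' hD3' hu rfl, C.mAt_const c a₀]
    have hRD' : R ≤ D' := fun g hg => hD3' g (hRc g hg) (hD1 g (hR.le hg)).1 (hoddr hR.isPGroup hg)
    have hR' : H82.SylowIn r R D' :=
      sylowIn_of_card hR.isPGroup hRD' (by rw [hcard]; exact hR.card_eq.ge)
    obtain ⟨w, hw, hwc⟩ := C.exists_swap hca
    obtain ⟨hnormw, -⟩ := C.core_spec hca hw hwc hD1' hD2' hD3'
    have hwR : H82.SylowIn r (cj w R) D' :=
      H8.sylowIn_map_conj hnormw (mem_zpowers w) hR'
    obtain ⟨e, he, heq⟩ := hwR.exists_conj hR'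
    have hewN : e * w ∈ normalizer (R : Set G) := by
      rw [H82.mem_normalizer_iff_map, H82.map_conj_mul]
      exact heq
    refine hB ((e * w) * u * (e * w)⁻¹) R (C.conj u _ hu) ?_ hR
      (mul_mem (mul_mem hewN huR') (inv_mem hewN))
    rw [C.pt_conj hu, mul_smul, ← hc, hwc]
    exact (hD1' e he).2
  -- `r` divides the number of involutions at a point
  have hrm : r ∣ H80.SE.mAt J pt a₀ := by
    by_contra hnd
    apply hRmove
    have hS := H8.sylowIn_centralizer hA2 hnorm (not_two_dvd hD2) hR huR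
    rw [centralizer_zpowers_eq] at hS
    have hRC : R ⊓ centralizer ({u} : Set G) = R := by
      refine eq_of_le_of_card_ge inf_le_left (le_of_eq ?_)
      rw [hS.card_eq, hR.card_eq,
        ← H82.card_mul_relIndex (inf_le_left : D ⊓ centralizer ({u} : Set G) ≤ D),
        inf_relIndex_left, hidx, Nat.factorization_mul Nat.card_pos.ne' hmAt, Finsupp.add_apply,
        Nat.factorization_eq_zero_of_not_dvd hnd, add_zero]
    intro g hg
    rw [← hRC] at hg
    exact smul_pt_of_commute C hu (mem_centralizer_singleton_iff.1 hg.2)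
  obtain ⟨Q, hQ, huQ, hQmove, hQmax⟩ := exists_moving_sylow C hall hr2 hu hR.isPGroup huR' hRmove
  -- every Sylow subgroup of a point stabiliser fixes a second point
  have hstar : ∀ (z : Ω) (P : Subgroup G), H82.SylowIn r P (MulAction.stabilizer G z) →
      ∃ d, d ≠ z ∧ ∀ g ∈ P, g • d = d := by
    intro z P hP
    by_contra hcon
    push Not at hcon
    by_cases hfix : ∃ e : Ω, ∀ g ∈ Q, g • e = e
    · obtain ⟨e, he⟩ := hfix
      have hue : u • e ≠ e := fun h => hQmove (C.uniq u e hu h ▸ he)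
      have heu : ∀ g ∈ Q, g • (u • e) = u • e := by
        intro g hg
        have h1 := he _ ((mem_normalizer_iff.1 (inv_mem huQ) g).1 hg)
        rw [inv_inv, mul_smul, mul_smul, inv_smul_eq_iff] at h1
        exact h1
      obtain ⟨k, hk⟩ := MulAction.exists_smul_eq G e z
      have hQz : H82.SylowIn r (cj k Q) (MulAction.stabilizer G z) := by
        refine sylowIn_of_card (hQ.map _) ?_ ?_
        · rw [← hk, MulAction.stabilizer_smul_eq_stabilizer_map_conj]
          exact cj_le_cj fun g hg => he g hg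
        · obtain ⟨S, hS, hQS⟩ := H82.exists_sylowIn_ge hQ (le_top : Q ≤ ⊤)
          rw [H82.card_map_conj, ← hQmax S hS.isPGroup hQS, hS.card_eq]
          refine Nat.pow_le_pow_right hr.pos ?_
          exact (Nat.factorization_le_iff_dvd Nat.card_pos.ne' Nat.card_pos.ne').2
            (card_dvd_of_le le_top) r
      obtain ⟨m, hm, hmP⟩ := hQz.exists_conj hP
      have hmz : (m * k) • e = z := by rw [mul_smul, hk]; exact hm
      obtain ⟨g, hg, hgne⟩ := hcon ((m * k) • (u • e))
        (fun h => hue (smul_left_cancel (m * k) (h.trans hmz.symm)))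
      rw [← hmP, ← H82.map_conj_mul] at hg
      obtain ⟨q, hq, rfl⟩ := hg
      exact hgne (show ((m * k) * q * (m * k)⁻¹) • ((m * k) • (u • e)) = _ by
        rw [← mul_smul, inv_mul_cancel_right, mul_smul, heu q hq])
    · push Not at hfix
      have hQ0 : Nat.card Ω ≡ 0 [MOD r] := by
        have h := hQ.card_modEq_card_fixedPoints Ω
        rwa [show Nat.card (MulAction.fixedPoints Q Ω) = 0 from
          Nat.card_eq_zero.2 (Or.inl ⟨fun e => by
            obtain ⟨g, hg, hne⟩ := hfix e.1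
            exact hne (e.2 ⟨g, hg⟩)⟩)] at h
      have hP1 : Nat.card Ω ≡ 1 [MOD r] := by
        have h := hP.isPGroup.card_modEq_card_fixedPoints Ω
        rwa [show Nat.card (MulAction.fixedPoints P Ω) = 1 from
          Nat.card_eq_one_iff_exists.2 ⟨⟨z, fun g => hP.le g.2⟩, fun e => Subtype.ext (by
            by_contra hne
            obtain ⟨g, hg, hgne⟩ := hcon e.1 hne
            exact hgne (e.2 ⟨g, hg⟩))⟩] at h
      have h01 := hQ0.symm.trans hP1
      rw [Nat.ModEq, Nat.zero_mod, Nat.mod_eq_of_lt hr.one_lt] at h01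
      exact zero_ne_one h01
  have hyp : H80.SE.Hyp J pt r := by
    refine ⟨C, hr, hr2, inferInstance, fun z => C.mAt_const a₀ z ▸ hrm, ?_⟩
    intro v Y hv hY hYfix hvY hidxY
    obtain ⟨P, hP, hYP⟩ := H82.exists_sylowIn_ge hY (M := MulAction.stabilizer G (pt v)) hYfix
    obtain ⟨d, hd, hPd⟩ := hstar _ P hP
    obtain ⟨D₁, h1, h2, h3⟩ := C.core (pt v) d (Ne.symm hd)
    have hPD : P ≤ D₁ := fun g hg => h3 g (hP.le hg) (hPd g hg) (hoddr hP.isPGroup hg)
    have hD₁ : D₁ ≤ MulAction.stabilizer G (pt v) := fun g hg => (h1 g hg).1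
    obtain ⟨S, hS, hvS⟩ := exists_inv_sylow h2 (C.inv v hv) hY (hYP.trans hPD) hvY (by
      rw [relIndex_core C (Ne.symm hd) h1 h3 hv rfl]
      exact hidxY.ge)
    refine hA v S hv (sylowIn_of_card hS.isPGroup (hS.le.trans hD₁) ?_) hvS
    rw [hS.card_eq, ← (hP.of_le hPD hD₁).card_eq, hP.card_eq]
  obtain ⟨h, -, hh⟩ := hyp.transitive ⊤ (fun g _ => trivial) hx hy
  exact ⟨h, hh⟩

end Global

end H29SEB
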