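import Cfsg.Agent.H81.FittingCores
import Cfsg.Agent.H81.ZJFactor
import Cfsg.Agent.H7.Bender
import Cfsg.Agent.H16.OddOrder
import Cfsg.Agent.H1.CoprimeAction2
import Cfsg.Agent.H84.PQLemma
import Cfsg.Agent.H74.SylIn
import Cfsg.Agent.H84.BenderLocal

/-!
Maximal members among the subgroups of odd order that are transitive by conjugation on the
involutions of a finite group (helper29, for Bender's theorem on strongly embedded subgroups).
-/

set_option autoImplicit false
set_option linter.style.haveILetI false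
set_option linter.unusedSectionVars false

namespace H29SEB

open Subgroup

universe u

variable {X : Type u} [Group X] [Finite X]

/-- Conjugate of a subgroup. -/
abbrev cj (g : X) (H : Subgroup X) : Subgroup X := H.map (MulAut.conj g).toMonoidHom

theorem mem_cj {g x : X} {H : Subgroup X} : x ∈ cj g H ↔ g⁻¹ * x * g ∈ H :=
  H82.mem_map_conj_iff

theorem cj_le_cj {g : X} {H K : Subgroup X} (h : H ≤ K) : cj g H ≤ cj g K := Subgroup.map_mono h

theorem cj_cancel (g : X) (H : Subgroup X) : cj g (cj g⁻¹ H) = H := H82.map_conj_cancel_inv H g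

theorem cj_inv_cancel (g : X) (H : Subgroup X) : cj g⁻¹ (cj g H) = H := H82.map_conj_inv_cancel H g

theorem le_cj_iff {g : X} {H K : Subgroup X} : H ≤ cj g K ↔ cj g⁻¹ H ≤ K := by
  constructor <;> intro h
  · simpa [cj_inv_cancel] using cj_le_cj (g := g⁻¹) h
  · simpa [cj_cancel] using cj_le_cj (g := g) h

theorem cj_centralizer (g : X) (H : Subgroup X) :
    centralizer ((cj g H : Subgroup X) : Set X) = cj g (centralizer (H : Set X)) :=
  H82.centralizer_map_conj H g

theorem cj_normalizer (g : X) (H : Subgroup X) :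
    normalizer ((cj g H : Subgroup X) : Set X) = cj g (normalizer (H : Set X)) :=
  H82.normalizer_map_conj H g

/-- `O_t(E)` in the ambient group. -/
abbrev core (t : ℕ) (E : Subgroup X) : Subgroup X := Cfsg.pCoreOf t E

theorem core_cj (t : ℕ) (g : X) (E : Subgroup X) : core t (cj g E) = cj g (core t E) :=
  H74.pCoreOf_map E _ (MulAut.conj g).injective

theorem core_ne_bot_cj {t : ℕ} {g : X} {E : Subgroup X} :
    core t (cj g E) ≠ ⊥ ↔ core t E ≠ ⊥ := by
  rw [core_cj, Ne, cj, Subgroup.map_eq_bot_iff_of_injective _ (MulAut.conj g).injective]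

theorem core_comm {s t : ℕ} (hs : s.Prime) (ht : t.Prime) (hne : s ≠ t) (E : Subgroup X) :
    core s E ≤ centralizer (core t E : Set X) := by
  haveI := Fact.mk hs
  haveI := Fact.mk ht
  exact H81.pCoreOf_le_centralizer hne E

/-- The elements of order dividing `t` in the centre of `O_t(E)`. -/
def om (t : ℕ) (E : Subgroup X) : Subgroup X where
  carrier := {x | x ∈ core t E ⊓ centralizer (core t E : Set X) ∧ x ^ t = 1}
  one_mem' := ⟨one_mem _, one_pow t⟩
  mul_mem' := by
    rintro x y ⟨hx, hx'⟩ ⟨hy, hy'⟩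
    have hc : Commute x y := (mem_centralizer_iff.1 hy.2 x hx.1)
    exact ⟨mul_mem hx hy, by rw [hc.mul_pow, hx', hy', one_mul]⟩
  inv_mem' := by
    rintro x ⟨hx, hx'⟩
    exact ⟨inv_mem hx, by rw [inv_pow, hx', inv_one]⟩

theorem mem_om {t : ℕ} {E : Subgroup X} {x : X} :
    x ∈ om t E ↔ x ∈ core t E ∧ x ∈ centralizer (core t E : Set X) ∧ x ^ t = 1 :=
  ⟨fun h => ⟨h.1.1, h.1.2, h.2⟩, fun h => ⟨⟨h.1, h.2.1⟩, h.2.2⟩⟩

theorem om_le_core (t : ℕ) (E : Subgroup X) : om t E ≤ core t E := fun _ hx => hx.1.1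

theorem om_le (t : ℕ) (E : Subgroup X) : om t E ≤ E :=
  (om_le_core t E).trans (H75.pCoreOf_le E)

theorem om_comm {t : ℕ} {E : Subgroup X} {x y : X} (hx : x ∈ om t E) (hy : y ∈ om t E) :
    Commute x y := mem_centralizer_iff.1 hy.1.2 x hx.1.1

theorem isPGroup_core {t : ℕ} (E : Subgroup X) : IsPGroup t (core t E) :=
  H75.isPGroup_pCoreOf (p := t) E

theorem isPGroup_om {t : ℕ} (E : Subgroup X) : IsPGroup t (om t E) :=
  (isPGroup_core E).to_le (om_le_core t E)

theorem normalizer_core_le (t : ℕ) (E : Subgroup X) :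
    normalizer (core t E : Set X) ≤ normalizer (om t E : Set X) := by
  intro g hg
  refine H82.mem_normalizer_of_map_le ?_
  rintro _ ⟨x, hx, rfl⟩
  obtain ⟨h1, h2, h3⟩ := mem_om.1 hx
  refine mem_om.2 ⟨(mem_normalizer_iff.1 hg x).1 h1, ?_, ?_⟩
  · exact (mem_normalizer_iff.1 (H75.normalizer_le_normalizer_centralizer _ hg) x).1 h2
  · show (MulAut.conj g).toMonoidHom x ^ t = 1
    rw [← map_pow, h3, map_one]

theorem le_normalizer_om (t : ℕ) (E : Subgroup X) : E ≤ normalizer (om t E : Set X) :=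
  (H75.le_normalizer_pCoreOf E).trans (normalizer_core_le t E)

theorem om_cj (t : ℕ) (g : X) (E : Subgroup X) : om t (cj g E) = cj g (om t E) := by
  ext x
  rw [mem_cj, mem_om, mem_om, core_cj, mem_cj, cj_centralizer, mem_cj]
  have : (g⁻¹ * x * g) ^ t = g⁻¹ * x ^ t * g := by
    have := conj_pow (i := t) (a := g⁻¹) (b := x)
    rwa [inv_inv] at this
  rw [this]
  refine and_congr_right fun _ => and_congr_right fun _ => ?_
  constructor <;> intro h
  · rw [h]; group
  · have h' := congrArg (fun y => g * y * g⁻¹) h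
    simpa [mul_assoc] using h'

theorem om_ne_bot {t : ℕ} [Fact t.Prime] {E : Subgroup X} (h : core t E ≠ ⊥) : om t E ≠ ⊥ := by
  haveI : Nontrivial (core t E) := (nontrivial_iff_ne_bot _).2 h
  have hne := (isPGroup_core (t := t) E).center_nontrivial
  obtain ⟨n, hn⟩ := IsPGroup.iff_card.mp
    ((isPGroup_core (t := t) E).to_subgroup (center (core t E)))
  have hd : t ∣ Nat.card (center (core t E)) := by
    rcases n with _ | n
    · rw [pow_zero] at hn
      exact absurd (Subgroup.card_eq_one.mp hn) ((nontrivial_iff_ne_bot _).1 hne)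
    · rw [hn]; exact dvd_pow_self t (Nat.succ_ne_zero n)
  obtain ⟨z, hz⟩ := exists_prime_orderOf_dvd_card' (G := center (core t E)) t hd
  have hz' : orderOf ((z : core t E) : X) = t := by
    rw [Subgroup.orderOf_coe, Subgroup.orderOf_coe, hz]
  intro hbot
  have hm : ((z : core t E) : X) ∈ om t E := by
    refine mem_om.2 ⟨(z : core t E).2, mem_centralizer_iff.2 fun y hy => ?_, ?_⟩
    · exact congrArg Subtype.val (mem_center_iff.1 z.2 ⟨y, hy⟩)
    · exact orderOf_dvd_iff_pow_eq_one.1 hz'.dvd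
  rw [hbot, mem_bot] at hm
  rw [hm, orderOf_one] at hz'
  exact (Fact.out : t.Prime).one_lt.ne hz'

/-- A subgroup of odd order that is maximal among those transitive on the involutions. -/
structure Member (E : Subgroup X) : Prop where
  odd : Odd (Nat.card E)
  ne_bot : E ≠ ⊥
  norm : ∀ Y : Subgroup X, Y ≠ ⊥ → Y ≤ E → E ≤ normalizer (Y : Set X) →
    normalizer (Y : Set X) ≤ E
  trans : ∀ v w : X, orderOf v = 2 → orderOf w = 2 → ∃ e ∈ E, e * v * e⁻¹ = w

namespace Member

variable {E : Subgroup X} (hE : Member E)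
include hE

theorem not_mem {v : X} (hv : orderOf v = 2) : v ∉ E := fun h => by
  have := hE.odd.of_dvd_nat (Subgroup.orderOf_dvd_natCard _ h)
  rw [hv] at this
  exact Nat.not_odd_iff_even.2 even_two this

theorem solvable : Group.IsSolvable E := H16.FT.oddOrder hE.odd

theorem map (g : X) : Member (cj g E) := by
  refine ⟨by rw [H82.card_map_conj]; exact hE.odd, fun h => hE.ne_bot ?_, ?_, ?_⟩
  · rwa [cj, Subgroup.map_eq_bot_iff_of_injective _ (MulAut.conj g).injective] at h
  · intro Y hY hYE hEY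
    have h1 := hE.norm (cj g⁻¹ Y)
      (fun h => hY (by rwa [cj, Subgroup.map_eq_bot_iff_of_injective _ (MulAut.conj g⁻¹).injective] at h))
      (by simpa [cj_inv_cancel] using cj_le_cj (g := g⁻¹) hYE)
      (by rw [cj_normalizer]; simpa [cj_inv_cancel] using cj_le_cj (g := g⁻¹) hEY)
    rw [cj_normalizer] at h1
    simpa [cj_cancel] using cj_le_cj (g := g) h1
  · intro v w hv hw
    have ho : ∀ a b : X, orderOf a = 2 → orderOf (b⁻¹ * a * b) = 2 := fun a b ha => by
      have h := orderOf_injective (MulAut.conj b⁻¹).toMonoidHom (MulAut.conj b⁻¹).injective a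
      rw [ha] at h
      simpa using h
    obtain ⟨e, he, h⟩ := hE.trans _ _ (ho v g hv) (ho w g hw)
    refine ⟨g * e * g⁻¹, mem_cj.2 (by simpa [mul_assoc] using he), ?_⟩
    calc g * e * g⁻¹ * v * (g * e * g⁻¹)⁻¹ = g * (e * (g⁻¹ * v * g) * e⁻¹) * g⁻¹ := by group
      _ = w := by rw [h]; group

theorem centralizer_om_le {t : ℕ} [Fact t.Prime] (ht : core t E ≠ ⊥) :
    centralizer (om t E : Set X) ≤ E :=
  (centralizer_le_normalizer _).trans (hE.norm _ (om_ne_bot ht) (om_le t E) (le_normalizer_om t E))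

theorem normalizer_eq : normalizer (E : Set X) = E :=
  le_antisymm (hE.norm E hE.ne_bot le_rfl le_normalizer) le_normalizer

theorem exists_prime : ∃ t : ℕ, t.Prime ∧ core t E ≠ ⊥ := by
  by_contra h
  push Not at h
  refine hE.ne_bot (le_bot_iff.1 ?_)
  have hF : Cfsg.fittingOf E = ⊥ := by
    rw [H81.fittingOf_eq_iSup, iSup_eq_bot]
    exact fun q => h q q.2
  have h1 := H81.inf_centralizer_fittingOf_le hE.solvable
  rw [hF] at h1
  refine (le_inf le_rfl (fun x _ => mem_centralizer_iff.2 ?_)).trans h1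
  intro y hy
  have hy' : y = 1 := by simpa using hy
  rw [hy', one_mul, mul_one]

/-- Two members containing each other's Fitting subgroup are equal, if it has two prime divisors. -/
theorem eq_of_cores {E' : Subgroup X} (hE' : Member E')
    (htwo : ∀ p : ℕ, p.Prime → ∃ t : ℕ, t.Prime ∧ t ≠ p ∧ core t E ≠ ⊥)
    (h1 : ∀ t : ℕ, t.Prime → core t E ≤ E') (h2 : ∀ t : ℕ, t.Prime → core t E' ≤ E) : E = E' := by
  by_contra hne
  have hlay : ∀ M : Subgroup X, Member M → Cfsg.layer ↥M = ⊥ := fun M hM => by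
    haveI := hM.solvable
    refine le_bot_iff.1 (Cfsg.Comp.layer_le_iff.2 fun L hL => ?_)
    have hsol : Group.IsSolvable L := inferInstance
    exact absurd hsol (Cfsg.Comp.isComponent_not_isSolvable hL)
  have hgF : ∀ M N : Subgroup X, Member M → (∀ t : ℕ, t.Prime → core t M ≤ N) →
      (Cfsg.generalizedFittingSubgroup ↥M).map M.subtype ≤ N := fun M N hM h => by
    rw [Cfsg.generalizedFittingSubgroup, hlay M hM, bot_sup_eq]
    show Cfsg.fittingOf M ≤ N
    rw [H81.fittingOf_eq_iSup]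
    exact iSup_le fun q => h q q.2
  obtain ⟨p, hp, hp', -⟩ := H7.bender_pair (M := E) (N := E') hne
    (fun A hA hle hEA => inf_le_right.trans (hE.norm A hA (hle.trans inf_le_left) hEA))
    (fun A hA hle hEA => inf_le_right.trans (hE'.norm A hA (hle.trans inf_le_right) hEA))
    (hgF E E' hE h1) (hgF E' E hE' h2)
  obtain ⟨t, ht, htp, htne⟩ := htwo p hp
  haveI := Fact.mk ht
  haveI := Fact.mk hp
  refine htne (le_bot_iff.1 ?_)
  have hle : core t E ≤ core p E := by
    refine Subgroup.map_mono ?_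
    rw [← hp']
    exact (Cfsg.Comp.pCore_le_fitting t).trans Cfsg.Comp.fitting_le_fStar
  have := H84.inf_eq_bot_of_coprime' (H81.coprime_of_isPGroup_ne htp
    (isPGroup_core (t := t) E) (isPGroup_core (t := p) E))
  rw [← this]
  exact le_inf le_rfl hle

end Member

/-- An `r`-element centralising a subgroup of index less than `r` of an abelian group it acts on
coprimely centralises the whole group. -/
theorem commute_of_small_index {r : ℕ} (hr : r.Prime) {x : X} (hx : ∃ k, x ^ r ^ k = 1)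
    {B : Subgroup X} (hB : ∀ a ∈ B, ∀ b ∈ B, Commute a b) (hxB : x ∈ normalizer (B : Set X))
    (hcop : (Nat.card B).Coprime r) (hidx : (centralizer ({x} : Set X)).relIndex B < r)
    {b : X} (hb : b ∈ B) : Commute x b := by
  obtain ⟨k, hk⟩ := hx
  set c := x * b * x⁻¹ * b⁻¹ with hc
  have hcB : c ∈ B := mul_mem ((mem_normalizer_iff.1 hxB b).1 hb) (inv_mem hb)
  -- the map `b ↦ x b x⁻¹ b⁻¹`
  let f : B →* X :=
    { toFun := fun a => x * a * x⁻¹ * (a : X)⁻¹
      map_one' := by simp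
      map_mul' := fun a a' => by
        have h1 : x * (a' : X) * x⁻¹ * (a' : X)⁻¹ ∈ B :=
          mul_mem ((mem_normalizer_iff.1 hxB _).1 a'.2) (inv_mem a'.2)
        have h2 := (hB _ h1 _ (inv_mem a.2)).eq
        calc x * ↑(a * a') * x⁻¹ * (↑(a * a'))⁻¹
            = (x * a * x⁻¹) * ((x * a' * x⁻¹ * (a' : X)⁻¹) * (a : X)⁻¹) := by
              rw [Subgroup.coe_mul]; group
          _ = _ := by rw [h2]; group }
  have hker : f.ker = (centralizer ({x} : Set X)).subgroupOf B := by
    ext a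
    show x * a * x⁻¹ * (a : X)⁻¹ = 1 ↔ (a : X) ∈ centralizer ({x} : Set X)
    rw [mem_centralizer_singleton_iff, mul_inv_eq_one, mul_inv_eq_iff_eq_mul, eq_comm]
  have hcard : Nat.card f.range < r := by
    rw [← Subgroup.index_ker, hker]
    exact hidx
  have hconj : ∀ i : ℕ, x ^ i * c * (x ^ i)⁻¹ ∈ f.range := by
    intro i
    induction i with
    | zero =>
      refine ⟨⟨b, hb⟩, ?_⟩
      simp [f, hc]
    | succ i ih =>
      obtain ⟨a, ha⟩ := ih
      refine ⟨⟨x * a * x⁻¹, (mem_normalizer_iff.1 hxB _).1 a.2⟩, ?_⟩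
      show x * (x * a * x⁻¹) * x⁻¹ * (x * a * x⁻¹)⁻¹ = _
      have ha' : x * (a : X) * x⁻¹ * (a : X)⁻¹ = x ^ i * c * (x ^ i)⁻¹ := ha
      rw [pow_succ' x i]
      calc x * (x * a * x⁻¹) * x⁻¹ * (x * a * x⁻¹)⁻¹
          = x * (x * a * x⁻¹ * (a : X)⁻¹) * x⁻¹ := by group
        _ = _ := by rw [ha']; group
  have hnotinj : ¬ Function.Injective
      (fun i : Fin r => (⟨x ^ (i : ℕ) * c * (x ^ (i : ℕ))⁻¹, hconj i⟩ : f.range)) := by
    intro hinj
    have := Nat.card_le_card_of_injective _ hinj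
    rw [Nat.card_fin] at this
    omega
  obtain ⟨i, j, hij, hne⟩ : ∃ i j : ℕ, x ^ i * c * (x ^ i)⁻¹ = x ^ j * c * (x ^ j)⁻¹ ∧
      (i < j ∧ j < r) := by
    simp only [Function.Injective, not_forall] at hnotinj
    obtain ⟨i, j, h, hne⟩ := hnotinj
    have h' := congrArg Subtype.val h
    rcases lt_or_gt_of_ne (fun e : (i : ℕ) = j => hne (Fin.ext e)) with hl | hl
    · exact ⟨i, j, h', hl, j.2⟩
    · exact ⟨j, i, h'.symm, hl, i.2⟩
  obtain ⟨d, rfl⟩ := Nat.exists_eq_add_of_le hne.1.le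
  have hd : Commute (x ^ d) c := by
    rw [pow_add] at hij
    have h := congrArg (fun y => (x ^ i)⁻¹ * y * x ^ i) hij
    simp only [mul_inv_rev] at h
    rw [show (x ^ i)⁻¹ * (x ^ i * c * (x ^ i)⁻¹) * x ^ i = c by group,
      show (x ^ i)⁻¹ * (x ^ i * x ^ d * c * ((x ^ d)⁻¹ * (x ^ i)⁻¹)) * x ^ i = x ^ d * c * (x ^ d)⁻¹
        by group] at h
    exact (eq_mul_inv_iff_mul_eq.1 h).symm
  have hcopd : d.Coprime (r ^ k) :=
    (Nat.Coprime.symm ((hr.coprime_iff_not_dvd).2 (Nat.not_dvd_of_pos_of_lt (by omega) (by omega)))).pow_right k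
  obtain ⟨m, hm⟩ : ∃ m : ℕ, (x ^ d) ^ m = x := by
    obtain ⟨m, -, hm⟩ := Nat.exists_mul_mod_eq_of_coprime (n := d) (k := r ^ k) 1 hcopd
      (Nat.pow_pos hr.pos).ne'
    refine ⟨m, ?_⟩
    rw [← pow_mul, pow_eq_pow_mod (d * m) hk, hm, ← pow_eq_pow_mod 1 hk, pow_one]
  have hxc : Commute x c := hm ▸ hd.pow_left m
  have hc1 : c = 1 := H84.commute_of_conj_eq_mul (x := b) hxc.eq (by rw [hc]; group)
    (H84.pow_card_eq_one_of_mem hcB) hk (hcop.pow_right k)
  rw [hc, mul_inv_eq_one, mul_inv_eq_iff_eq_mul] at hc1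
  exact hc1

end H29SEB
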