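import Cfsg.Agent.H29.SEB.Member
import Cfsg.Agent.H9.SolBalance
import Cfsg.Agent.H79.CoprimeGen

/-!
A prime for which no involution normalises a Sylow subgroup of a member (helper29, for Bender's
theorem on strongly embedded subgroups).
-/

set_option autoImplicit false
set_option linter.style.haveILetI false
set_option linter.unusedSectionVars false

namespace H29SEB

open Subgroup
open scoped Pointwise

universe u

variable {X : Type u} [Group X] [Finite X]

/-- No involution centralises a subgroup of index at most `t` of `om t E`. -/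
def NoSmall (t : ℕ) (E : Subgroup X) : Prop :=
  ∀ w : X, orderOf w = 2 → t < (centralizer ({w} : Set X)).relIndex (om t E)

theorem cj_centralizer_singleton (g w : X) :
    cj g (centralizer ({w} : Set X)) = centralizer ({g * w * g⁻¹} : Set X) := by
  ext x
  rw [mem_cj, mem_centralizer_singleton_iff, mem_centralizer_singleton_iff]
  constructor <;> intro h
  · calc x * (g * w * g⁻¹) = g * ((g⁻¹ * x * g) * w) * g⁻¹ := by group
      _ = g * (w * (g⁻¹ * x * g)) * g⁻¹ := by rw [h]
      _ = g * w * g⁻¹ * x := by group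
  · calc g⁻¹ * x * g * w = g⁻¹ * (x * (g * w * g⁻¹)) * g := by group
      _ = g⁻¹ * (g * w * g⁻¹ * x) * g := by rw [h]
      _ = w * (g⁻¹ * x * g) := by group

theorem relIndex_conj (g w : X) (H : Subgroup X) :
    (centralizer ({g * w * g⁻¹} : Set X)).relIndex (cj g H) =
      (centralizer ({w} : Set X)).relIndex H := by
  rw [← cj_centralizer_singleton]
  exact relIndex_map_map_of_injective _ _ (MulAut.conj g).injective

theorem orderOf_conj (g w : X) : orderOf (g * w * g⁻¹) = orderOf w :=
  orderOf_injective (MulAut.conj g).toMonoidHom (MulAut.conj g).injective w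

theorem NoSmall.map {t : ℕ} {E : Subgroup X} (h : NoSmall t E) (g : X) : NoSmall t (cj g E) := by
  intro w hw
  have h1 := h (g⁻¹ * w * g⁻¹⁻¹) (by rw [orderOf_conj]; exact hw)
  rw [om_cj, show w = g * (g⁻¹ * w * g⁻¹⁻¹) * g⁻¹ by group, relIndex_conj]
  exact h1

theorem small_of_not_noSmall {t : ℕ} {E : Subgroup X} (hE : Member E) (h : ¬ NoSmall t E) (v : X)
    (hv : orderOf v = 2) : (centralizer ({v} : Set X)).relIndex (om t E) ≤ t := by
  simp only [NoSmall, not_forall, not_lt] at h
  obtain ⟨w, hw, hle⟩ := h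
  obtain ⟨e, he, rfl⟩ := hE.trans w v hw hv
  have hfix : cj e (om t E) = om t E :=
    H82.mem_normalizer_iff_map.1 (le_normalizer_om t E he)
  rw [← hfix, relIndex_conj]
  exact hle

/-- Without involutions centralising large parts of `om t E'`, it centralises every `om s E`. -/
theorem om_le_centralizer_of_noSmall {E E' : Subgroup X} (hE : Member E) (hE' : Member E')
    {t s : ℕ} (ht : t.Prime) (hs : s.Prime) (hst : s ≠ t) (hNo : NoSmall t E')
    (hsE' : core s E' ≠ ⊥) (hle : om t E' ≤ E) :
    om t E' ≤ centralizer (om s E : Set X) := by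
  classical
  haveI := Fact.mk ht
  haveI := Fact.mk hs
  set A := om t E' with hA
  set B := om s E with hB
  have hAB : A ≤ normalizer (B : Set X) := hle.trans (le_normalizer_om s E)
  suffices key : ∀ n : ℕ, ∀ K : Subgroup X, K ≤ A → K.relIndex A = n →
      B ⊓ centralizer (K : Set X) ≤ centralizer (A : Set X) by
    rw [le_centralizer_iff]
    refine le_trans (le_inf le_rfl ?_) (key _ ⊥ bot_le rfl)
    intro b _
    exact mem_centralizer_iff.2 fun y hy => by
      have hy' : y = 1 := by simpa using hy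
      rw [hy', one_mul, mul_one]
  intro n
  induction n using Nat.strong_induction_on with
  | _ n ih =>
  intro K hKA hn
  by_cases hsmall : K.relIndex A ≤ t
  · set M := centralizer (K : Set X) with hM
    have hodd : Odd (Nat.card M) := by
      rcases Nat.even_or_odd (Nat.card M) with he | ho
      · exfalso
        haveI : Fact (Nat.Prime 2) := ⟨Nat.prime_two⟩
        obtain ⟨w, hw⟩ := exists_prime_orderOf_dvd_card' (G := M) 2 (even_iff_two_dvd.1 he)
        have hw' : orderOf (w : X) = 2 := by rw [Subgroup.orderOf_coe, hw]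
        have h1 : (centralizer ({(w : X)} : Set X)).relIndex A ≤ K.relIndex A := by
          refine Subgroup.relIndex_le_of_le_left ?_ FiniteIndex.index_ne_zero
          intro k hk
          exact mem_centralizer_singleton_iff.2 (mem_centralizer_iff.1 w.2 k hk)
        exact absurd (hNo w hw') (not_lt.2 (h1.trans hsmall))
      · exact ho
    haveI := H16.FT.oddOrder hodd
    set R := om s E' with hR
    have hAR : A ≤ centralizer (R : Set X) :=
      (om_le_core t E').trans ((core_comm ht hs hst.symm E').trans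
        (centralizer_le (om_le_core s E')))
    have hAM : A ≤ M := fun a ha => mem_centralizer_iff.2 fun k hk => (om_comm (hKA hk) ha).eq
    have hRM : R ≤ M := (le_centralizer_iff.1 hAR).trans (centralizer_le hKA)
    have hcore : A.subgroupOf M ≤ Cfsg.pPrimeCore s M := by
      refine Cfsg.Agent.H9.le_pPrimeCore_of_pSolvable H10.isPSolvable_of_isSolvable
        (R := R.subgroupOf M) (isPGroup_om (t := s) E').comap_subtype ?_ ?_ ?_
      · rw [Nat.card_congr (subgroupOfEquivOfLe hAM).toEquiv]
        obtain ⟨k, hk⟩ := IsPGroup.iff_card.mp (isPGroup_om (t := t) E')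
        rw [hk]
        exact fun hd => hst ((Nat.prime_dvd_prime_iff_eq hs ht).1 (hs.dvd_of_dvd_pow hd))
      · intro a ha
        refine mem_centralizer_iff.2 fun r hr => Subtype.ext ?_
        exact mem_centralizer_iff.1 (hAR (mem_subgroupOf.1 ha)) r hr
      · intro c hc
        have hcE : (c : X) ∈ E' := hE'.centralizer_om_le hsE' (mem_centralizer_iff.2 fun r hr =>
          congrArg Subtype.val (mem_centralizer_iff.1 hc ⟨r, hRM hr⟩ (mem_subgroupOf.2 hr)))
        have hcn := mem_normalizer_iff.1 (le_normalizer_om t E' hcE)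
        refine mem_normalizer_iff.2 fun x => ?_
        rw [mem_subgroupOf, mem_subgroupOf]
        exact hcn x
    intro b hb
    rw [mem_centralizer_iff]
    intro a ha
    have hcB : a * b * a⁻¹ * b⁻¹ ∈ B :=
      mul_mem ((mem_normalizer_iff.1 (hAB ha) b).1 hb.1) (inv_mem hb.1)
    have hbM : b ∈ M := hb.2
    haveI := H1.pPrimeCore_normal' s M
    have hcM : (⟨a, hAM ha⟩ : M) * ⟨b, hbM⟩ * (⟨a, hAM ha⟩ : M)⁻¹ * (⟨b, hbM⟩ : M)⁻¹ ∈
        Cfsg.pPrimeCore s M := by
      have h1 : (⟨a, hAM ha⟩ : M) ∈ Cfsg.pPrimeCore s M := hcore (mem_subgroupOf.2 ha)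
      rw [mul_assoc, mul_assoc]
      refine mul_mem h1 ?_
      rw [← mul_assoc]
      exact (inferInstance : (Cfsg.pPrimeCore s M).Normal).conj_mem _ (inv_mem h1) _
    have hone : a * b * a⁻¹ * b⁻¹ = 1 := by
      refine H84.eq_one_of_pow_coprime (m := Nat.card B) (n := Nat.card (Cfsg.pPrimeCore s M)) ?_
        (H84.pow_card_eq_one_of_mem hcB) ?_
      · obtain ⟨k, hk⟩ := IsPGroup.iff_card.mp (isPGroup_om (t := s) E)
        rw [hk]
        exact ((H1.card_pPrimeCore_coprime s M).symm).pow_left k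
      · exact congrArg Subtype.val (H84.pow_card_eq_one_of_mem hcM)
    rwa [mul_inv_eq_one, mul_inv_eq_iff_eq_mul] at hone
  · -- two independent elements outside `K`
    push Not at hsmall
    have hKne : K ≠ A := fun h => by
      rw [h, relIndex_self] at hsmall
      exact absurd hsmall (not_lt.2 ht.one_lt.le)
    obtain ⟨x, hxA, hxK⟩ := SetLike.exists_of_lt (lt_of_le_of_ne hKA hKne)
    have hcommA : ∀ a ∈ A, ∀ b ∈ A, Commute a b := fun a ha b hb => om_comm ha hb
    have hpow : ∀ a ∈ A, a ^ t = 1 := fun a ha => (mem_om.1 ha).2.2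
    set Kx := K ⊔ zpowers x with hKx
    have hKxA : Kx ≤ A := sup_le hKA (zpowers_le.2 hxA)
    have hord : orderOf x = t :=
      orderOf_eq_prime (hpow x hxA) (fun h => hxK (h ▸ one_mem K))
    have hKxne : Kx ≠ A := by
      intro h
      have hcard : Nat.card A ≤ Nat.card K * t := by
        rw [← h, hKx, ← hord, ← Nat.card_zpowers x]
        have hn : zpowers x ≤ normalizer (K : Set X) := by
          rw [zpowers_le]
          refine centralizer_le_normalizer _ (mem_centralizer_iff.2 fun k hk => ?_)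
          exact (hcommA k (hKA hk) x hxA).eq
        rw [← Nat.card_prod]
        refine Nat.card_le_card_of_surjective
          (fun p : K × zpowers x => (⟨(p.1 : X) * p.2,
            mul_mem (mem_sup_left p.1.2) (mem_sup_right p.2.2)⟩ : ↥(K ⊔ zpowers x))) ?_
        rintro ⟨y, hy⟩
        have hy' : y ∈ ((K : Set X) * ((zpowers x : Subgroup X) : Set X)) := by
          rw [← Subgroup.coe_mul_of_right_le_normalizer_left K (zpowers x) hn]
          exact hy
        obtain ⟨a, ha, b, hb, rfl⟩ := Set.mem_mul.1 hy'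
        exact ⟨(⟨a, ha⟩, ⟨b, hb⟩), rfl⟩
      have := H82.card_mul_relIndex hKA
      have hK0 : 0 < Nat.card K := Nat.card_pos
      nlinarith
    obtain ⟨y, hyA, hyKx⟩ := SetLike.exists_of_lt (lt_of_le_of_ne hKxA hKxne)
    set V := closure ({x, y} : Set X) with hV
    have hVA : V ≤ A := by
      rw [hV, closure_le]
      rintro z (rfl | rfl)
      · exact hxA
      · exact hyA
    haveI : IsMulCommutative V :=
      ⟨⟨fun a b => Subtype.ext (hcommA a (hVA a.2) b (hVA b.2)).eq⟩⟩
    have hxy : Commute x y := hcommA x hxA y hyA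
    have hVform : ∀ z ∈ V, ∃ i j : ℤ, z = x ^ i * y ^ j := by
      intro z hz
      induction hz using closure_induction with
      | mem z hz =>
        rcases hz with rfl | rfl
        · exact ⟨1, 0, by simp⟩
        · exact ⟨0, 1, by simp⟩
      | one => exact ⟨0, 0, by simp⟩
      | mul a b _ _ ha hb =>
        obtain ⟨i, j, rfl⟩ := ha
        obtain ⟨i', j', rfl⟩ := hb
        refine ⟨i + i', j + j', ?_⟩
        rw [zpow_add, zpow_add, mul_assoc, mul_assoc, ← mul_assoc (y ^ j),
          ((hxy.zpow_zpow i' j).eq).symm, mul_assoc]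
      | inv a _ ha =>
        obtain ⟨i, j, rfl⟩ := ha
        refine ⟨-i, -j, ?_⟩
        rw [mul_inv_rev, zpow_neg, zpow_neg]
        exact ((hxy.zpow_zpow i j).inv_inv).eq.symm
    have hVK : ∀ z ∈ V, z ∈ K → z = 1 := by
      intro z hz hzK
      obtain ⟨i, j, rfl⟩ := hVform z hz
      have hyj : y ^ j ∈ Kx := by
        have : y ^ j = (x ^ i)⁻¹ * (x ^ i * y ^ j) := by group
        rw [this]
        exact mul_mem (inv_mem (mem_sup_right (zpow_mem_zpowers x i))) (mem_sup_left hzK)
      have hyord : orderOf y = t :=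
        orderOf_eq_prime (hpow y hyA) (fun h => hyKx (h ▸ one_mem Kx))
      have hj : (t : ℤ) ∣ j := by
        by_contra hj
        have hcop : IsCoprime (t : ℤ) j :=
          (Nat.prime_iff_prime_int.1 ht).coprime_iff_not_dvd.2 hj
        obtain ⟨c, d, hcd⟩ := hcop
        apply hyKx
        have : y = (y ^ (t : ℤ)) ^ c * (y ^ j) ^ d := by
          rw [← zpow_mul, ← zpow_mul, ← zpow_add, show (t : ℤ) * c + j * d = 1 by linarith, zpow_one]
        rw [this, zpow_natCast, hpow y hyA, one_zpow, one_mul]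
        exact zpow_mem hyj d
      have hy1 : y ^ j = 1 := by
        obtain ⟨c, rfl⟩ := hj
        rw [zpow_mul, zpow_natCast, hpow y hyA, one_zpow]
      rw [hy1, mul_one] at hzK ⊢
      by_contra hx1
      have hi : ¬ (t : ℤ) ∣ i := by
        rintro ⟨c, rfl⟩
        exact hx1 (by rw [zpow_mul, zpow_natCast, hpow x hxA, one_zpow])
      obtain ⟨c, d, hcd⟩ : IsCoprime (t : ℤ) i :=
        (Nat.prime_iff_prime_int.1 ht).coprime_iff_not_dvd.2 hi
      apply hxK
      have : x = (x ^ (t : ℤ)) ^ c * (x ^ i) ^ d := by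
        rw [← zpow_mul, ← zpow_mul, ← zpow_add, show (t : ℤ) * c + i * d = 1 by linarith, zpow_one]
      rw [this, zpow_natCast, hpow x hxA, one_zpow, one_mul]
      exact zpow_mem hzK d
    have hnc : ¬ IsCyclic V := by
      intro hcyc
      obtain ⟨g, hg⟩ := hcyc.exists_generator
      obtain ⟨i, hi⟩ := mem_zpowers_iff.1 (hg ⟨x, subset_closure (by simp)⟩)
      obtain ⟨j, hj⟩ := mem_zpowers_iff.1 (hg ⟨y, subset_closure (by simp)⟩)
      have hi' : (g : X) ^ i = x := by rw [← Subgroup.coe_zpow, hi]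
      have hj' : (g : X) ^ j = y := by rw [← Subgroup.coe_zpow, hj]
      have hti : ¬ (t : ℤ) ∣ i := by
        rintro ⟨c, rfl⟩
        apply hxK
        rw [← hi', zpow_mul, zpow_natCast, hpow _ (hVA g.2), one_zpow]
        exact one_mem K
      obtain ⟨c, d, hcd⟩ : IsCoprime (t : ℤ) i :=
        (Nat.prime_iff_prime_int.1 ht).coprime_iff_not_dvd.2 hti
      apply hyKx
      have : (g : X) = ((g : X) ^ (t : ℤ)) ^ c * x ^ d := by
        rw [← hi', ← zpow_mul, ← zpow_mul, ← zpow_add, show (t : ℤ) * c + i * d = 1 by linarith,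
          zpow_one]
      rw [← hj', this, zpow_natCast, hpow _ (hVA g.2), one_zpow, one_mul]
      exact zpow_mem (zpow_mem (mem_sup_right (mem_zpowers x)) d) j
    refine H79.le_of_centralizers_le (p := t) (A := V) (fun a ha => hpow a (hVA ha)) hnc ?_ ?_ ?_
    · intro v hv
      refine H82.mem_normalizer_of_map_le ?_
      rintro _ ⟨b, hb, rfl⟩
      refine ⟨(mem_normalizer_iff.1 (hAB (hVA hv)) b).1 hb.1, ?_⟩
      have hvK : v ∈ centralizer (K : Set X) :=
        mem_centralizer_iff.2 fun k hk => (hcommA k (hKA hk) v (hVA hv)).eq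
      show v * b * v⁻¹ ∈ centralizer (K : Set X)
      exact mul_mem (mul_mem hvK hb.2) (inv_mem hvK)
    · obtain ⟨k, hk⟩ := IsPGroup.iff_card.mp ((isPGroup_om (t := s) E).to_le
        (inf_le_left : B ⊓ centralizer (K : Set X) ≤ B))
      rw [hk]
      exact ((Nat.coprime_primes hs ht).2 hst).pow_left k
    · intro z hz hz1
      set L := K ⊔ zpowers z with hL
      have hLA : L ≤ A := sup_le hKA (zpowers_le.2 (hVA hz))
      have hlt : L.relIndex A < n := by
        rw [← hn, ← relIndex_mul_relIndex K L A le_sup_left hLA]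
        refine lt_mul_of_one_lt_left (Nat.pos_of_ne_zero FiniteIndex.index_ne_zero) ?_
        refine Nat.one_lt_iff_ne_zero_and_ne_one.2 ⟨FiniteIndex.index_ne_zero, fun h => ?_⟩
        exact hz1 (hVK z hz (relIndex_eq_one.1 h (mem_sup_right (mem_zpowers z))))
      refine le_trans (le_inf (inf_le_left.trans inf_le_left) ?_) (ih _ hlt L hLA rfl)
      rw [le_centralizer_iff, hL, sup_le_iff, zpowers_le]
      refine ⟨fun k hk => mem_centralizer_iff.2 fun b hb => ?_, mem_centralizer_iff.2 fun b hb => ?_⟩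
      · exact (mem_centralizer_iff.1 hb.1.2 k hk).symm
      · exact mem_centralizer_singleton_iff.1 hb.2

/-- The cores away from `r` of one member lie in the other. -/
theorem core_le_of_kills {E E' : Subgroup X} (hE : Member E) (hE' : Member E') {r s : ℕ}
    (hr : r.Prime) (hs : s.Prime) (hsr : s ≠ r) (hrE : core r E ≠ ⊥) (hrE' : core r E' ≠ ⊥)
    (hsE' : core s E' ≠ ⊥)
    (hle : core r E' ≤ E) (hk : om r E ≤ centralizer (om s E' : Set X)) : core s E ≤ E' := by
  haveI := Fact.mk hr
  haveI := Fact.mk hs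
  set P := om s E' with hP
  set Q := core r E' with hQ
  set U := core s E with hU
  have hPQ : P ≤ centralizer (Q : Set X) := (om_le_core s E').trans (core_comm hs hr hsr E')
  have hPE : P ≤ E := (le_centralizer_iff.1 hk).trans (hE.centralizer_om_le hrE)
  have hQU : Q ≤ normalizer (U : Set X) := hle.trans (H75.le_normalizer_pCoreOf E)
  have hcop : (Nat.card Q).Coprime (Nat.card U) :=
    H81.coprime_of_isPGroup_ne hsr.symm (isPGroup_core (t := r) E') (isPGroup_core (t := s) E)
  have hQU' : Q ≤ centralizer (U : Set X) := by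
    refine H1.thompson_P_times_Q (isPGroup_om (t := s) E') ?_ (isPGroup_core (t := s) E) hPQ
      (hPE.trans (H75.le_normalizer_pCoreOf E)) hQU ?_
    · obtain ⟨k, hk⟩ := IsPGroup.iff_card.mp (isPGroup_core (t := r) E')
      rw [hk]
      exact ((Nat.coprime_primes hr hs).2 hsr.symm).pow_left k
    · have hC : U ⊓ centralizer (P : Set X) ≤ E' := inf_le_right.trans (hE'.centralizer_om_le hsE')
      refine H84.le_centralizer_of_mutual (hC.trans (H75.le_normalizer_pCoreOf E')) ?_
        (hcop.coprime_dvd_right (card_dvd_of_le inf_le_left)).symm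
      refine le_trans (le_inf hQU ?_) (H75.normalizer_inf_le_normalizer_inf _ _)
      exact (le_centralizer_iff.1 hPQ).trans le_normalizer
  exact (le_centralizer_iff.1 hQU').trans
    ((centralizer_le (om_le_core r E')).trans (hE'.centralizer_om_le hrE'))

/-- The prime for a member whose Fitting subgroup has two prime divisors. -/
theorem exists_prime_of_two {E : Subgroup X} (hE : Member E)
    (htwo : ∀ p : ℕ, p.Prime → ∃ t : ℕ, t.Prime ∧ t ≠ p ∧ core t E ≠ ⊥) :
    ∃ r : ℕ, r.Prime ∧ core r E ≠ ⊥ ∧ ∀ (v : X) (P : Subgroup X), orderOf v = 2 →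
      IsPGroup r P → v ∈ normalizer (P : Set X) → core r E ≤ P → False := by
  classical
  have hlt : ∀ t : ℕ, t.Prime → core t E ≠ ⊥ → t ≤ Nat.card X := by
    intro t ht hne
    haveI := Fact.mk ht
    obtain ⟨n, hn⟩ := IsPGroup.iff_card.mp (isPGroup_core (t := t) E)
    have hn0 : n ≠ 0 := fun h => hne (card_eq_one.mp (by rw [hn, h, pow_zero]))
    refine Nat.le_of_dvd Nat.card_pos ((dvd_pow_self t hn0).trans ?_)
    rw [← hn]
    exact card_subgroup_dvd_card _
  obtain ⟨r, hr, hrne, hchoice⟩ : ∃ r : ℕ, r.Prime ∧ core r E ≠ ⊥ ∧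
      (NoSmall r E ∨ ∀ s : ℕ, s.Prime → core s E ≠ ⊥ → ¬ NoSmall s E ∧ s ≤ r) := by
    by_cases hex : ∃ t : ℕ, t.Prime ∧ core t E ≠ ⊥ ∧ NoSmall t E
    · obtain ⟨t, h1, h2, h3⟩ := hex
      exact ⟨t, h1, h2, Or.inl h3⟩
    · push Not at hex
      obtain ⟨t, ht, htne⟩ := hE.exists_prime
      let π : Finset ℕ := (Finset.range (Nat.card X + 1)).filter fun s => s.Prime ∧ core s E ≠ ⊥
      have hπ : π.Nonempty :=
        ⟨t, Finset.mem_filter.2 ⟨Finset.mem_range.2 (Nat.lt_succ_of_le (hlt t ht htne)), ht, htne⟩⟩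
      obtain ⟨-, h1, h2⟩ := Finset.mem_filter.1 (π.max'_mem hπ)
      refine ⟨π.max' hπ, h1, h2, Or.inr fun s hs hsne => ⟨hex s hs hsne, π.le_max' s ?_⟩⟩
      exact Finset.mem_filter.2 ⟨Finset.mem_range.2 (Nat.lt_succ_of_le (hlt s hs hsne)), hs, hsne⟩
  haveI := Fact.mk hr
  refine ⟨r, hr, hrne, fun v P hv hP hvP hle => ?_⟩
  -- what is centralised by the relevant conjugates of `O_r(E)`
  let Z : Set X := {z | z * v = v * z ∧ ∃ s : ℕ, s.Prime ∧ s ≠ r ∧ z ∈ om s E}
  set P1 := P ⊓ centralizer Z with hP1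
  have hR : core r E ≤ P1 := le_inf hle fun x hx => mem_centralizer_iff.2 fun z hz => by
    obtain ⟨-, s, hs, hsr, hz⟩ := hz
    exact (mem_centralizer_iff.1 (core_comm hr hs hsr.symm E hx) z (om_le_core s E hz))
  -- `om r` of a conjugate inside `E` and centralising `Z` centralises each `om s`
  have hkill : ∀ g : X, cj g (core r E) ≤ P1 ⊓ E → ∀ s : ℕ, s.Prime → s ≠ r →
      om r (cj g E) ≤ centralizer (om s E : Set X) := by
    intro g hg s hs hsr
    haveI := Fact.mk hs
    by_cases hsne : core s E = ⊥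
    · intro x _
      refine mem_centralizer_iff.2 fun y hy => ?_
      have hy1 : y ∈ core s E := om_le_core s E hy
      rw [hsne, mem_bot] at hy1
      rw [hy1, one_mul, mul_one]
    have hle' : om r (cj g E) ≤ P1 ⊓ E := ((om_le_core r _).trans (core_cj r g E).le).trans hg
    rcases hchoice with hNo | hall
    · exact om_le_centralizer_of_noSmall hE (hE.map g) hr hs hsr (hNo.map g)
        (core_ne_bot_cj.2 hsne) (hle'.trans inf_le_right)
    obtain ⟨hsmall, hsle⟩ := hall s hs hsne
    intro x hx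
    obtain ⟨⟨hxP, hxZ⟩, hxE⟩ := hle' hx
    refine mem_centralizer_iff.2 fun b hb => Eq.symm ?_
    refine (commute_of_small_index hr (B := om s E) ⟨1, by rw [pow_one]; exact (mem_om.1 hx).2.2⟩
      (fun a ha c hc => om_comm ha hc) (le_normalizer_om s E hxE) ?_ ?_ hb).eq
    · obtain ⟨k, hk⟩ := IsPGroup.iff_card.mp (isPGroup_om (t := s) E)
      rw [hk]
      exact ((Nat.coprime_primes hs hr).2 hsr).pow_left k
    · refine lt_of_le_of_lt ?_ (lt_of_le_of_ne hsle hsr)
      refine le_trans ?_ (small_of_not_noSmall hE hsmall v hv)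
      rw [← inf_relIndex_left (om s E) (centralizer ({v} : Set X))]
      refine Subgroup.relIndex_le_of_le_left ?_ FiniteIndex.index_ne_zero
      intro z hz
      refine mem_centralizer_singleton_iff.2 ?_
      exact mem_centralizer_iff.1 hxZ z ⟨mem_centralizer_singleton_iff.1 hz.2, s, hs, hsr, hz.1⟩
  -- hence such conjugating elements lie in `E`
  have hgood : ∀ g : X, cj g (core r E) ≤ P1 ⊓ E → cj g⁻¹ (core r E) ≤ P1 ⊓ E → g ∈ E := by
    intro g hg hg'
    have hcores : ∀ h : X, cj h (core r E) ≤ P1 ⊓ E → cj h⁻¹ (core r E) ≤ P1 ⊓ E →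
        ∀ s : ℕ, s.Prime → core s E ≤ cj h E := by
      intro h hh hh' s hs
      by_cases hsr : s = r
      · subst hsr
        rw [le_cj_iff]
        exact hh'.trans inf_le_right
      by_cases hsne : core s E = ⊥
      · rw [hsne]; exact bot_le
      refine core_le_of_kills hE (hE.map h) hr hs hsr hrne (core_ne_bot_cj.2 hrne)
        (core_ne_bot_cj.2 hsne) (((core_cj r h E).le.trans hh).trans inf_le_right) ?_
      have := cj_le_cj (g := h) (hkill h⁻¹ hh' s hs hsr)
      rw [← om_cj, cj_cancel, ← cj_centralizer, ← om_cj] at this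
      exact this
    have heq : E = cj g E := by
      refine hE.eq_of_cores (hE.map g) htwo (hcores g hg hg') fun s hs => ?_
      rw [core_cj]
      simpa [cj_cancel] using cj_le_cj (g := g) (hcores g⁻¹ hg' (by simpa using hg) s hs)
    rw [← hE.normalizer_eq]
    exact H82.mem_normalizer_iff_map.2 heq.symm
  have hRE : core r E ≤ P1 ⊓ E := le_inf hR (H75.pCoreOf_le E)
  have hPE : P1 ≤ E := by
    by_contra hn
    have hlt' : P1 ⊓ E < P1 := lt_of_le_of_ne inf_le_left fun h => hn (h ▸ inf_le_right)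
    obtain ⟨y, hy, hyE, hyN⟩ :=
      H65.exists_normalizing_not_mem (hP.to_le inf_le_left) inf_le_left hlt'.ne
    have hcjle : ∀ z : X, z ∈ normalizer ((P1 ⊓ E : Subgroup X) : Set X) →
        cj z (core r E) ≤ P1 ⊓ E :=
      fun z hz => (cj_le_cj hRE).trans (H82.mem_normalizer_iff_map.1 hz).le
    exact hyE ⟨hy, hgood y (hcjle y hyN) (hcjle y⁻¹ (inv_mem hyN))⟩
  have hvN : v ∈ normalizer (P1 : Set X) := by
    refine mem_normalizer_iff.2 fun x => ?_
    have hvC : v ∈ centralizer Z := mem_centralizer_iff.2 fun z hz => hz.1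
    rw [hP1]
    refine and_congr ((mem_normalizer_iff.1 hvP) x)
      ⟨fun (h : x ∈ centralizer Z) => (mul_mem (mul_mem hvC h) (inv_mem hvC) :
        v * x * v⁻¹ ∈ centralizer Z), fun (h : v * x * v⁻¹ ∈ centralizer Z) => ?_⟩
    have := mul_mem (mul_mem (inv_mem hvC) h) hvC
    show x ∈ centralizer Z
    simpa [mul_assoc] using this
  have hvle : ∀ z : X, z ∈ normalizer (P1 : Set X) → cj z (core r E) ≤ P1 ⊓ E := fun z hz => by
    have := (cj_le_cj hR).trans (H82.mem_normalizer_iff_map.1 hz).le
    exact le_inf this (this.trans hPE)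
  exact hE.not_mem hv (hgood v (hvle v hvN) (hvle v⁻¹ (inv_mem hvN)))

/-- A member whose Fitting subgroup is a `p`-group contains the normaliser of its Sylow
`p`-subgroups. -/
theorem normalizer_sylow_le {E : Subgroup X} (hE : Member E) {p : ℕ} [Fact p.Prime]
    (hone : ∀ t : ℕ, t.Prime → t ≠ p → core t E = ⊥) {R : Subgroup X}
    (hR : H82.SylowIn p R E) : normalizer (R : Set X) ≤ E := by
  have hF : Cfsg.fittingOf E ≤ core p E := by
    rw [H81.fittingOf_eq_iSup]
    refine iSup_le fun q => ?_
    by_cases hq : (q : ℕ) = p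
    · rw [hq]
    · show core (q : ℕ) E ≤ core p E
      rw [hone q q.2 hq]; exact bot_le
  have hpne : core p E ≠ ⊥ := by
    obtain ⟨t, ht, htne⟩ := hE.exists_prime
    by_cases h : t = p
    · exact h ▸ htne
    · exact absurd (hone t ht h) htne
  have hp2 : p ≠ 2 := by
    rintro rfl
    obtain ⟨n, hn⟩ := IsPGroup.iff_card.mp (isPGroup_core (t := 2) E)
    have hn0 : n ≠ 0 := fun h => hpne (card_eq_one.mp (by rw [hn, h, pow_zero]))
    have hd : 2 ∣ Nat.card E :=
      (dvd_pow_self 2 hn0).trans (hn ▸ card_dvd_of_le (H75.pCoreOf_le E))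
    exact Nat.not_even_iff_odd.2 hE.odd (even_iff_two_dvd.2 hd)
  have hO : H81.pPrimeCoreOf p E = ⊥ := by
    set K := H81.pPrimeCoreOf p E with hK
    have hcop : (Nat.card K).Coprime (Nat.card (core p E)) := by
      obtain ⟨n, hn⟩ := IsPGroup.iff_card.mp (isPGroup_core (t := p) E)
      rw [hn]
      exact (H81.pPrimeCoreOf_coprime p E).pow_right n
    have hc : K ≤ centralizer (core p E : Set X) :=
      H84.le_centralizer_of_mutual ((H81.pPrimeCoreOf_le p E).trans (H75.le_normalizer_pCoreOf E))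
        ((H75.pCoreOf_le E).trans (H81.pPrimeCoreOf_normalized p E)) hcop
    have h1 : K ≤ core p E := ((le_inf (H81.pPrimeCoreOf_le p E)
      (hc.trans (centralizer_le hF))).trans (H81.inf_centralizer_fittingOf_le hE.solvable)).trans hF
    exact le_bot_iff.1 ((le_inf le_rfl h1).trans (H84.inf_eq_bot_of_coprime' hcop).le)
  have hRne : R ≠ ⊥ := by
    intro h
    obtain ⟨m, -, hm⟩ := hR.exists_conj_le (isPGroup_core (t := p) E) (H75.pCoreOf_le E)
    rw [h, le_bot_iff, Subgroup.map_eq_bot_iff_of_injective _ (MulAut.conj m).injective] at hm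
    exact hpne hm
  exact (H11.normalizer_le_normalizer_centerThompsonAOf R).trans
    (hE.norm _ (H11.centerThompsonAOf_ne_bot hR.isPGroup hRne)
      ((H11.centerThompsonAOf_le R).trans hR.le)
      (H81.le_normalizer_zj hp2 hE.odd hE.solvable hO hR))

/-- For a member there is a prime such that no involution normalises a Sylow subgroup of the
member or of the group. -/
theorem exists_prime_sylow {E : Subgroup X} (hE : Member E) :
    ∃ r : ℕ, r.Prime ∧ r ≠ 2 ∧
      (∀ (v : X) (P : Sylow r X), orderOf v = 2 → v ∉ normalizer ((P : Subgroup X) : Set X)) ∧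
      ∀ (v : X) (P : Subgroup X), orderOf v = 2 → H82.SylowIn r P E →
        v ∉ normalizer (P : Set X) := by
  have hodd : ∀ {r : ℕ}, r.Prime → core r E ≠ ⊥ → r ≠ 2 := by
    rintro r hr hne rfl
    haveI := Fact.mk hr
    obtain ⟨n, hn⟩ := IsPGroup.iff_card.mp (isPGroup_core (t := 2) E)
    have hn0 : n ≠ 0 := fun h => hne (card_eq_one.mp (by rw [hn, h, pow_zero]))
    have hd : 2 ∣ Nat.card E :=
      (dvd_pow_self 2 hn0).trans (hn ▸ card_dvd_of_le (H75.pCoreOf_le E))
    exact Nat.not_even_iff_odd.2 hE.odd (even_iff_two_dvd.2 hd)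
  by_cases htwo : ∀ p : ℕ, p.Prime → ∃ t : ℕ, t.Prime ∧ t ≠ p ∧ core t E ≠ ⊥
  · obtain ⟨r, hr, hne, hno⟩ := exists_prime_of_two hE htwo
    haveI := Fact.mk hr
    refine ⟨r, hr, hodd hr hne, fun v P hv hvP => ?_, fun v P hv hP hvP => ?_⟩
    · obtain ⟨g, hg⟩ := (H82.sylow_sylowIn_top P).exists_conj_le (isPGroup_core (t := r) E) le_top
      refine hno (g⁻¹ * v * g) (cj g⁻¹ P) ?_ (P.2.map _) ?_ ?_
      · have := orderOf_conj g⁻¹ v
        rwa [inv_inv, hv] at this
      · rw [cj_normalizer, mem_cj]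
        simpa [mul_assoc] using hvP
      · rw [le_cj_iff, inv_inv]
        exact hg.2
    · obtain ⟨m, hm, hmP⟩ := hP.exists_conj_le (isPGroup_core (t := r) E) (H75.pCoreOf_le E)
      refine hno v P hv hP.isPGroup hvP ?_
      have hfix : cj m (core r E) = core r E :=
        H82.mem_normalizer_iff_map.1 (H75.le_normalizer_pCoreOf E hm)
      exact hfix.ge.trans hmP
  · push Not at htwo
    obtain ⟨p, hp, hone⟩ := htwo
    haveI := Fact.mk hp
    have hne : core p E ≠ ⊥ := by
      obtain ⟨t, ht, htne⟩ := hE.exists_prime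
      by_cases h : t = p
      · exact h ▸ htne
      · exact absurd (hone t ht h) htne
    refine ⟨p, hp, hodd hp hne, fun v P hv hvP => ?_, fun v P hv hP hvP =>
      hE.not_mem hv (normalizer_sylow_le hE hone hP hvP)⟩
    obtain ⟨R, hR⟩ := H82.exists_sylowIn p E
    obtain ⟨g, -, hg⟩ := (H82.sylow_sylowIn_top P).exists_conj_le hR.isPGroup le_top
    -- `R` is a Sylow subgroup of the whole group
    have hR2 : IsPGroup p (cj g⁻¹ (P : Subgroup X)) := P.2.map _
    have hle : R ≤ cj g⁻¹ (P : Subgroup X) := by rw [le_cj_iff, inv_inv]; exact hg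
    have heq : R = cj g⁻¹ (P : Subgroup X) := by
      by_contra hne'
      obtain ⟨y, hy, hyR, hyN⟩ := H65.exists_normalizing_not_mem hR2 hle hne'
      have hyE := normalizer_sylow_le hE hone hR hyN
      refine hyR ?_
      have h1 := hR.eq_of_le (hR2.to_le inf_le_left)
        (inf_le_right : cj g⁻¹ (P : Subgroup X) ⊓ E ≤ E) (le_inf hle hR.le)
      rw [← h1]
      exact ⟨hy, hyE⟩
    refine hE.not_mem (v := g⁻¹ * v * g) ?_ (normalizer_sylow_le hE hone hR ?_)
    · have := orderOf_conj g⁻¹ v
      rwa [inv_inv, hv] at this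
    · rw [heq, cj_normalizer, mem_cj]
      simpa [mul_assoc] using hvP

end H29SEB
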