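import Cfsg.Agent.H29.SEB.Prime
import Cfsg.Agent.H85.BrauerSuzuki
import Cfsg.Agent.H70.TwoInvol

/-!
A prime such that no involution normalises a Sylow subgroup, when a subgroup of odd order is
transitive on the involutions and the odd core is trivial (helper29, for Bender's theorem on
strongly embedded subgroups).
-/

set_option autoImplicit false
set_option linter.style.haveILetI false
set_option linter.unusedSectionVars false

namespace H29SEB

open Subgroup

universe u

variable {X : Type u} [Group X] [Finite X]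

theorem not_two_dvd {M : Subgroup X} (h : Odd (Nat.card M)) : ¬ 2 ∣ Nat.card M :=
  fun hd => Nat.not_even_iff_odd.2 h (even_iff_two_dvd.2 hd)

theorem odd_of_le {H K : Subgroup X} (hK : Odd (Nat.card K)) (h : H ≤ K) : Odd (Nat.card H) :=
  hK.of_dvd_nat (card_dvd_of_le h)

theorem isPGroup_zpowers {v : X} (hv : orderOf v = 2) : IsPGroup 2 (zpowers v) :=
  IsPGroup.of_card (n := 1) (by rw [Nat.card_zpowers, hv, pow_one])

theorem centralizer_zpowers_eq (v : X) :
    centralizer ((zpowers v : Subgroup X) : Set X) = centralizer ({v} : Set X) := by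
  rw [zpowers_eq_closure, centralizer_closure]

theorem inv_eq_of_two {v : X} (hv : orderOf v = 2) : v⁻¹ = v := H70.inv_eq_self_of_two hv

theorem sylowIn_of_card {r : ℕ} [Fact r.Prime] {P M : Subgroup X} (hP : IsPGroup r P) (hPM : P ≤ M)
    (h : r ^ (Nat.card M).factorization r ≤ Nat.card P) : H82.SylowIn r P M := by
  obtain ⟨Q, hQ, hPQ⟩ := H82.exists_sylowIn_ge hP hPM
  have : P = Q := eq_of_le_of_card_ge hPQ (hQ.card_eq.trans_le h)
  exact this ▸ hQ

theorem card_le_of_pGroup {r : ℕ} [Fact r.Prime] {P M : Subgroup X} (hP : IsPGroup r P)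
    (hPM : P ≤ M) : Nat.card P ≤ r ^ (Nat.card M).factorization r := by
  obtain ⟨Q, hQ, hPQ⟩ := H82.exists_sylowIn_ge hP hPM
  exact (Subgroup.card_le_of_le hPQ).trans hQ.card_eq.le

/-- Two subgroups with the same orbit of `v` have the same index of the centraliser of `v`. -/
theorem relIndex_eq_of_transitive {W E : Subgroup X} (hWE : W ≤ E) {v : X}
    (h : ∀ e ∈ E, ∃ w ∈ W, w * v * w⁻¹ = e * v * e⁻¹) :
    (centralizer ({v} : Set X)).relIndex W = (centralizer ({v} : Set X)).relIndex E := by
  set C := centralizer ({v} : Set X) with hC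
  refine Nat.card_congr (Equiv.ofBijective (quotientSubgroupOfEmbeddingOfLE C hWE)
    ⟨(quotientSubgroupOfEmbeddingOfLE C hWE).injective, fun q => ?_⟩)
  induction q using QuotientGroup.induction_on with | _ x => ?_
  obtain ⟨w, hw, hwv⟩ := h x x.2
  refine ⟨QuotientGroup.mk ⟨w, hw⟩, ?_⟩
  rw [quotientSubgroupOfEmbeddingOfLE_apply_mk]
  refine QuotientGroup.eq.2 ?_
  rw [mem_subgroupOf]
  push_cast
  rw [hC, mem_centralizer_singleton_iff]
  calc w⁻¹ * (x : X) * v = w⁻¹ * ((x : X) * v * (x : X)⁻¹) * x := by group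
    _ = w⁻¹ * (w * v * w⁻¹) * x := by rw [hwv]
    _ = v * (w⁻¹ * x) := by group

/-- A Sylow subgroup of `W` meets at least the `r`-part of the index of a centraliser. -/
theorem sylow_idx {r : ℕ} [Fact r.Prime] {T W : Subgroup X} (hT : H82.SylowIn r T W) (v : X) :
    r ^ ((centralizer ({v} : Set X)).relIndex W).factorization r ≤
      (centralizer ({v} : Set X)).relIndex T := by
  set C := centralizer ({v} : Set X)
  have e1 : Nat.card ↥(W ⊓ C) * C.relIndex W = Nat.card W := by
    rw [← inf_relIndex_left W C]; exact H82.card_mul_relIndex inf_le_left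
  have e2 : Nat.card ↥(T ⊓ C) * C.relIndex T = Nat.card T := by
    rw [← inf_relIndex_left T C]; exact H82.card_mul_relIndex inf_le_left
  have h1 : Nat.card ↥(T ⊓ C) ≤ r ^ (Nat.card ↥(W ⊓ C)).factorization r :=
    card_le_of_pGroup (hT.isPGroup.to_le inf_le_left) (inf_le_inf_right C hT.le)
  have h2 : r ^ (Nat.card W).factorization r ≤
      r ^ (Nat.card ↥(W ⊓ C)).factorization r * C.relIndex T := by
    rw [← hT.card_eq, ← e2]
    exact Nat.mul_le_mul_right _ h1
  rw [← e1, Nat.factorization_mul Nat.card_pos.ne'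
    (show C.relIndex W ≠ 0 from FiniteIndex.index_ne_zero), Finsupp.add_apply, pow_add] at h2
  exact Nat.le_of_mul_le_mul_left h2 (pow_pos (Fact.out : r.Prime).pos _)

/-- An `r`-subgroup normalised by an involution on which it has the full `r`-part of the index of
its centraliser lies in an invariant Sylow subgroup. -/
theorem exists_inv_sylow {r : ℕ} [Fact r.Prime] {E T : Subgroup X} (hE : Odd (Nat.card E)) {v : X}
    (hv : orderOf v = 2) (hT : IsPGroup r T) (hTE : T ≤ E) (hvT : v ∈ normalizer (T : Set X))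
    (hidx : r ^ ((centralizer ({v} : Set X)).relIndex E).factorization r ≤
      (centralizer ({v} : Set X)).relIndex T) :
    ∃ S, H82.SylowIn r S E ∧ v ∈ normalizer (S : Set X) := by
  haveI : Fact (Nat.Prime 2) := ⟨Nat.prime_two⟩
  set C := centralizer ({v} : Set X) with hC
  set F := E ⊓ cj v E with hF
  have hvv : cj v (cj v E) = E := by
    conv_lhs => arg 2; rw [← inv_eq_of_two hv]
    exact cj_cancel v E
  have hvF : v ∈ normalizer (F : Set X) := by
    refine H82.mem_normalizer_of_map_le ?_
    exact le_inf ((cj_le_cj inf_le_right).trans hvv.le) (cj_le_cj inf_le_left)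
  have hTF : T ≤ F := le_inf hTE (by
    conv_lhs => rw [← H82.mem_normalizer_iff_map.1 hvT]
    exact cj_le_cj hTE)
  have hFC : F ⊓ C = E ⊓ C := by
    refine le_antisymm (inf_le_inf_right C inf_le_left) fun x hx => ⟨⟨hx.1, ?_⟩, hx.2⟩
    show x ∈ cj v E
    rw [mem_cj, mul_assoc, mem_centralizer_singleton_iff.1 hx.2, inv_mul_cancel_left]
    exact hx.1
  have hA := isPGroup_zpowers hv
  have hFodd := not_two_dvd (odd_of_le hE (inf_le_left : F ≤ E))
  obtain ⟨S, hS, hAS, hTS⟩ :=
    H8.exists_inv_sylowIn_ge hA (zpowers_le.2 hvF) hFodd hT hTF (zpowers_le.2 hvT)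
  refine ⟨S, sylowIn_of_card hS.isPGroup (hS.le.trans inf_le_left) ?_, zpowers_le.1 hAS⟩
  have hSC := H8.sylowIn_centralizer hA (zpowers_le.2 hvF) hFodd hS hAS
  rw [centralizer_zpowers_eq, ← hC, hFC] at hSC
  have e1 : Nat.card ↥(E ⊓ C) * C.relIndex E = Nat.card E := by
    rw [← inf_relIndex_left E C]; exact H82.card_mul_relIndex inf_le_left
  have e2 : Nat.card ↥(S ⊓ C) * C.relIndex S = Nat.card S := by
    rw [← inf_relIndex_left S C]; exact H82.card_mul_relIndex inf_le_left
  rw [← e2, hSC.card_eq, ← e1, Nat.factorization_mul Nat.card_pos.ne'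
    (show C.relIndex E ≠ 0 from FiniteIndex.index_ne_zero), Finsupp.add_apply, pow_add]
  exact Nat.mul_le_mul_left _
    (hidx.trans (relIndex_le_of_le_right hTS FiniteIndex.index_ne_zero))

/-- If two involutions do not commute, a maximal odd subgroup containing one transitive on the
involutions is a member. -/
theorem exists_member {W : Subgroup X} (hW : Odd (Nat.card W))
    (htrans : ∀ v w : X, orderOf v = 2 → orderOf w = 2 → ∃ e ∈ W, e * v * e⁻¹ = w)
    (hO : Cfsg.pPrimeCore 2 X = ⊥) {a b : X} (ha : orderOf a = 2) (hb : orderOf b = 2)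
    (hab : ¬ Commute a b) : ∃ E : Subgroup X, W ≤ E ∧ Member E := by
  obtain ⟨E, ⟨hEodd, hWE⟩, hmax⟩ := Set.Finite.exists_maximal
    (Set.toFinite {E : Subgroup X | Odd (Nat.card E) ∧ W ≤ E}) ⟨W, hW, le_rfl⟩
  have htE : ∀ v w : X, orderOf v = 2 → orderOf w = 2 → ∃ e ∈ E, e * v * e⁻¹ = w := fun v w hv hw => by
    obtain ⟨e, he, h⟩ := htrans v w hv hw
    exact ⟨e, hWE he, h⟩
  refine ⟨E, hWE, hEodd, ?_, ?_, htE⟩
  · rintro rfl
    obtain ⟨e, he, h⟩ := htE a b ha hb
    rw [mem_bot.1 he, one_mul, inv_one, mul_one] at h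
    exact hab (h ▸ Commute.refl a)
  · intro Y hY hYE hEY
    rcases Nat.even_or_odd (Nat.card (normalizer (Y : Set X))) with he | ho
    swap
    · exact hmax (y := normalizer (Y : Set X)) ⟨ho, hWE.trans hEY⟩ hEY
    exfalso
    haveI : Fact (Nat.Prime 2) := ⟨Nat.prime_two⟩
    obtain ⟨i, hi⟩ :=
      exists_prime_orderOf_dvd_card' (G := normalizer (Y : Set X)) 2 (even_iff_two_dvd.1 he)
    have hall : ∀ w : X, orderOf w = 2 → w ∈ normalizer (Y : Set X) := by
      intro w hw
      obtain ⟨e, he, rfl⟩ := htE (i : X) w (by rw [Subgroup.orderOf_coe, hi]) hw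
      exact mul_mem (mul_mem (hEY he) i.2) (inv_mem (hEY he))
    set M := closure {w : X | orderOf w = 2} with hM
    haveI hMn : M.Normal := by
      refine ⟨fun x hx g => ?_⟩
      induction hx using closure_induction with
      | mem w hw => exact subset_closure ((orderOf_conj g w).trans hw)
      | one => simp
      | mul p q _ _ hp hq =>
        rw [show g * (p * q) * g⁻¹ = (g * p * g⁻¹) * (g * q * g⁻¹) by group]
        exact mul_mem hp hq
      | inv p _ hp =>
        rw [show g * p⁻¹ * g⁻¹ = (g * p * g⁻¹)⁻¹ by group]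
        exact inv_mem hp
    have hMY : M ≤ normalizer (Y : Set X) := (closure_le _).2 hall
    have hbot : Y ⊓ M = ⊥ := by
      haveI : ((Y ⊓ M).subgroupOf M).Normal := by
        refine ⟨fun x hx g => ?_⟩
        rw [mem_subgroupOf] at hx ⊢
        push_cast
        exact ⟨(mem_normalizer_iff.1 (hMY g.2) _).1 hx.1,
          (mul_mem (mul_mem g.2 x.2) (inv_mem g.2) : (g : X) * x * (g : X)⁻¹ ∈ M)⟩
      have h1 := H85.eq_bot_of_odd_of_core_eq_bot (H85.pPrimeCore_eq_bot_of_normal hO M)
        ((Y ⊓ M).subgroupOf M) (by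
          rw [Nat.card_congr (subgroupOfEquivOfLe inf_le_right).toEquiv]
          exact odd_of_le hEodd (inf_le_left.trans hYE))
      rwa [subgroupOf_eq_bot, disjoint_iff, inf_assoc, inf_idem] at h1
    have hYC : Y ≤ centralizer (M : Set X) := by
      intro y hy
      refine mem_centralizer_iff.2 fun m hm => ?_
      have h1 : m * y * m⁻¹ * y⁻¹ ∈ Y ⊓ M := by
        refine ⟨(mul_mem ((mem_normalizer_iff.1 (hMY hm) y).1 hy) (inv_mem hy) :
          m * y * m⁻¹ * y⁻¹ ∈ Y), ?_⟩
        show m * y * m⁻¹ * y⁻¹ ∈ M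
        rw [show m * y * m⁻¹ * y⁻¹ = m * (y * m⁻¹ * y⁻¹) by group]
        exact mul_mem hm (hMn.conj_mem _ (inv_mem hm) y)
      rw [hbot, mem_bot, mul_inv_eq_one, mul_inv_eq_iff_eq_mul] at h1
      exact h1
    have hCodd : Odd (Nat.card (centralizer (M : Set X))) := by
      rcases Nat.even_or_odd (Nat.card (centralizer (M : Set X))) with he' | ho'
      swap
      · exact ho'
      exfalso
      obtain ⟨j, hj⟩ :=
        exists_prime_orderOf_dvd_card' (G := centralizer (M : Set X)) 2 (even_iff_two_dvd.1 he')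
      have hj' : orderOf (j : X) = 2 := by rw [Subgroup.orderOf_coe, hj]
      obtain ⟨e, -, he⟩ := htE (j : X) a hj' ha
      have hb' : e⁻¹ * b * e ∈ M := by
        have := hMn.conj_mem b (subset_closure hb) e⁻¹
        rwa [inv_inv] at this
      have h1 : (e⁻¹ * b * e) * j = j * (e⁻¹ * b * e) := mem_centralizer_iff.1 j.2 _ hb'
      apply hab
      show a * b = b * a
      calc a * b = e * ((j : X) * (e⁻¹ * b * e)) * e⁻¹ := by rw [← he]; group
        _ = e * ((e⁻¹ * b * e) * j) * e⁻¹ := by rw [h1]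
        _ = b * a := by rw [← he]; group
    have := H85.eq_bot_of_odd_of_core_eq_bot hO (centralizer (M : Set X)) hCodd
    exact hY (le_bot_iff.1 (this ▸ hYC))

/-- A prime for which no involution normalises a Sylow subgroup of the group or of a subgroup of
odd order transitive on the involutions. -/
theorem exists_prime_quot {W : Subgroup X} (hW : Odd (Nat.card W))
    (htrans : ∀ v w : X, orderOf v = 2 → orderOf w = 2 → ∃ e ∈ W, e * v * e⁻¹ = w)
    (hO : Cfsg.pPrimeCore 2 X = ⊥) {a b : X} (ha : orderOf a = 2) (hb : orderOf b = 2)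
    (hne : a ≠ b) :
    ∃ r : ℕ, r.Prime ∧ r ≠ 2 ∧
      (∀ (v : X) (P : Sylow r X), orderOf v = 2 → v ∉ normalizer ((P : Subgroup X) : Set X)) ∧
      ∀ (v : X) (P : Subgroup X), orderOf v = 2 → H82.SylowIn r P W →
        v ∉ normalizer (P : Set X) := by
  by_cases hcomm : ∀ v w : X, orderOf v = 2 → orderOf w = 2 → Commute v w
  · -- the involutions generate an elementary abelian normal subgroup
    obtain ⟨e, heW, he⟩ := htrans a b ha hb
    set k := (centralizer ({a} : Set X)).relIndex W with hk
    have hk1 : k ≠ 1 := by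
      intro h
      have := mem_centralizer_singleton_iff.1 (relIndex_eq_one.1 h heW)
      apply hne
      rw [← he, this, mul_inv_cancel_right]
    obtain ⟨r, hr, hrk⟩ := Nat.exists_prime_and_dvd hk1
    haveI := Fact.mk hr
    have hkodd : Odd k := hW.of_dvd_nat (relIndex_dvd_card _ _)
    have hr2 : r ≠ 2 := by
      rintro rfl
      exact Nat.not_even_iff_odd.2 hkodd (even_iff_two_dvd.2 hrk)
    -- normalised `r`-groups are centralised
    have hcent : ∀ (v : X) (P : Subgroup X), orderOf v = 2 → IsPGroup r P →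
        v ∈ normalizer (P : Set X) → P ≤ centralizer ({v} : Set X) := by
      intro v P hv hP hvP x hx
      have hvx : orderOf (x * v * x⁻¹) = 2 := (orderOf_conj x v).trans hv
      set c := x * v * x⁻¹ * v⁻¹ with hc
      have hcP : c ∈ P := by
        rw [hc, show x * v * x⁻¹ * v⁻¹ = x * (v * x⁻¹ * v⁻¹) by group]
        exact mul_mem hx ((mem_normalizer_iff.1 hvP _).1 (inv_mem hx))
      have hc2 : c ^ 2 = 1 := by
        rw [hc, inv_eq_of_two hv, Commute.mul_pow (hcomm _ _ hvx hv), sq, sq,
          H70.mul_self_of_two hvx, H70.mul_self_of_two hv, one_mul]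
      obtain ⟨n, hn⟩ := IsPGroup.iff_card.mp hP
      have hc1 : c = 1 := H84.eq_one_of_pow_coprime
        (((Nat.coprime_primes hr Nat.prime_two).2 hr2).pow_left n)
        (hn ▸ H84.pow_card_eq_one_of_mem hcP) hc2
      rw [hc, mul_inv_eq_one, mul_inv_eq_iff_eq_mul] at hc1
      exact mem_centralizer_singleton_iff.2 hc1
    have hconj : ∀ v : X, orderOf v = 2 → (centralizer ({v} : Set X)).relIndex W = k := by
      intro v hv
      obtain ⟨g, hg, rfl⟩ := htrans a v ha hv
      conv_lhs => rw [← H82.mem_normalizer_iff_map.1 (le_normalizer hg)]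
      exact relIndex_conj g a W
    refine ⟨r, hr, hr2, fun v P hv hvP => ?_, fun v P hv hP hvP => ?_⟩
    · have hle := hcent v P hv P.2 hvP
      have h1 : (centralizer ({v} : Set X)).relIndex W = (centralizer ({v} : Set X)).index := by
        rw [← relIndex_top_right]
        exact relIndex_eq_of_transitive le_top fun g _ =>
          htrans v _ hv ((orderOf_conj g v).trans hv)
      exact P.not_dvd_index ((hrk.trans ((hconj v hv).symm.trans h1).dvd).trans (index_dvd_of_le hle))
    · refine hP.not_dvd (hrk.trans ?_)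
      rw [← hconj v hv, ← inf_relIndex_left W (centralizer ({v} : Set X))]
      exact relIndex_dvd_of_le_left W (le_inf hP.le (hcent v P hv hP.isPGroup hvP))
  · push Not at hcomm
    obtain ⟨v₀, w₀, hv₀, hw₀, hn₀⟩ := hcomm
    obtain ⟨E, hWE, hE⟩ := exists_member hW htrans hO hv₀ hw₀ hn₀
    obtain ⟨r, hr, hr2, h1, h2⟩ := exists_prime_sylow hE
    haveI := Fact.mk hr
    refine ⟨r, hr, hr2, h1, fun v T hv hT hvT => ?_⟩
    obtain ⟨S, hS, hvS⟩ := exists_inv_sylow hE.odd hv hT.isPGroup (hT.le.trans hWE) hvT (by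
      rw [← relIndex_eq_of_transitive hWE fun e _ => htrans v _ hv ((orderOf_conj e v).trans hv)]
      exact sylow_idx hT v)
    exact h2 v S hv hS hvS

end H29SEB
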